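import Cfsg.Prelude.Def_Spor_Mathieu
import Cfsg.Prelude.Def_CaseTheorems
set_option linter.all false

/-!
# Five small maximal subgroups of the Baby Monster: the interface (helper1, for S5527)

* `NTA K A`, `NT K n`, `Tst K t` : the normaliser tests;
* `Facts G` : what is used on the big group (all of it is invariant under isomorphism);
* `I31`, `I11`, `IM`, `I17`, `I33` : what is used on the five small groups;
* `Ex31`, `Ex11`, `ExM`, `Ex17`, `Ex33` : what the computations deliver.
-/

set_option autoImplicit false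

namespace Cfsg.Agent.BX.Max

open Subgroup

/-- the normaliser test at the subgroup `A` -/
def NTA {G : Type*} [Group G] (K A : Subgroup G) : Prop :=
  ∀ X : Subgroup G, K ≤ X → X ≠ ⊤ → X ⊓ normalizer (A : Set G) ≤ K

/-- the normaliser test at a subgroup of order `n` -/
def NT {G : Type*} [Group G] (K : Subgroup G) (n : ℕ) : Prop :=
  ∃ A : Subgroup G, A ≤ K ∧ Nat.card A = n ∧
    ∀ X : Subgroup G, K ≤ X → X ≠ ⊤ → X ⊓ normalizer (A : Set G) ≤ K

/-- no proper overgroup of `K` contains `t` -/
def Tst {G : Type*} [Group G] (K : Subgroup G) (t : G) : Prop := ∀ X : Subgroup G, K ≤ X → X ≠ ⊤ → t ∉ X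

/-- `C(x) / ⟨x⟩ ≅ S` -/
def Quo {G : Type*} [Group G] (x : G) (S : Type) [Group S] : Prop :=
  ∃ φ : ↥(centralizer ({x} : Set G)) →* S, Function.Surjective φ ∧ ∀ g, φ g = 1 ↔ (g : G) ∈ zpowers x

/-- an overgroup of `K` with order divisible by 47 is the whole group -/
def Big {G : Type*} [Group G] (K : Subgroup G) : Prop := ∀ X : Subgroup G, K ≤ X → 47 ∣ Nat.card X → X = ⊤

/-- the order of the Baby Monster -/
def nB : ℕ := 4154781481226426191177580544000000

/-- the orders of the nonabelian simple groups with order dividing `nB` -/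
def oB : List ℕ := [60, 168, 360, 504, 660, 1092, 2448, 2520, 3420, 4080, 5616, 6048, 6072, 7800, 7920, 9828, 14880,
  20160, 25920, 29120, 32736, 51888, 58800, 62400, 95040, 126000, 175560, 181440, 262080, 372000, 443520, 604800, 976500,
  979200, 1451520, 1814400, 3265920, 4245696, 4680000, 5515776, 6065280, 9999360, 10200960, 13685760, 17971200, 19958400,
  42456960, 44352000, 50232960, 174182400, 197406720, 211341312, 239500800, 244823040, 251596800, 898128000, 987033600,
  1018368000, 1056706560, 1425715200, 3113510400, 4585351680, 5859000000, 7254000000, 9196830720, 14742000000,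
  20158709760, 43589145600, 47377612800, 50778000000, 448345497600, 495766656000, 653837184000, 4106059776000,
  4952179814400, 10461394944000, 23499295948800, 25015379558400, 34693789777920, 42305421312000, 64561751654400,
  177843714048000, 258492255436800, 273030912000000, 3201186852864000, 3311126603366400, 24815256521932800,
  60822550204416000, 90745943887872000, 1216451004088320000, 4089470473293004800, 4157776806543360000,
  50027557148216524800, 51615733565620224000, 361310134959341568000, 76532479683774853939200,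
  208114637736580743168000, 4154781481226426191177580544000000]

/-- `L₂(31)` -/
abbrev T31 : Type := Matrix.ProjectiveSpecialLinearGroup (Fin 2) (ZMod 31)
/-- `PGL₂(11)` -/
abbrev T11 : Type := GL (Fin 2) (ZMod 11) ⧸ Subgroup.center (GL (Fin 2) (ZMod 11))
/-- `M₁₁` -/
abbrev TM : Type := ↥Cfsg.Spor.M11
/-- `PGL₂(17)` -/
abbrev T17 : Type := GL (Fin 2) (ZMod 17) ⧸ Subgroup.center (GL (Fin 2) (ZMod 17))
/-- `L₃(3)` -/
abbrev T33 : Type := Matrix.ProjectiveSpecialLinearGroup (Fin 3) (ZMod 3)

/-- the consequences of the classification (they do not mention the big group) -/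
structure Sieve : Prop where
  ords : ∀ (S : Type) [Group S] [Finite S], IsSimpleGroup S → (¬ ∀ a b : S, a * b = b * a) → Nat.card S ∣ nB →
    Nat.card S ∈ oB
  th : ∀ (S : Type) [Group S] [Finite S], IsSimpleGroup S → Nat.card S = 90745943887872000 → ∀ s : S, orderOf s ≠ 16
  m23 : ∀ (S : Type) [Group S] [Finite S], IsSimpleGroup S → Nat.card S = 10200960 → ∃ s : S, orderOf s = 15
  u52 : ∀ (S : Type) [Group S] [Finite S], IsSimpleGroup S → Nat.card S = 13685760 → ∃ s : S, orderOf s = 15
  u62 : ∀ (S : Type) [Group S] [Finite S], IsSimpleGroup S → Nat.card S = 9196830720 → ∃ s : S, orderOf s = 15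
  m22 : ∀ (S : Type) [Group S] [Finite S], IsSimpleGroup S → Nat.card S = 443520 → ∀ K : Subgroup S, IsEmpty (K ≃* TM)

/-- the local facts on the big group -/
structure Loc (G : Type) [Group G] : Prop where
  card : Nat.card G = nB
  rank : PRankLE 2 14 G
  c47 : ∀ x : G, orderOf x = 47 → Nat.card (centralizer ({x} : Set G)) = 47
  c31 : ∀ x : G, orderOf x = 31 → Nat.card (centralizer ({x} : Set G)) = 31
  c17 : ∀ x : G, orderOf x = 17 → Nat.card (centralizer ({x} : Set G)) = 68
  q13 : ∀ x : G, orderOf x = 13 → Quo x (Equiv.Perm (Fin 4))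
  q11 : ∀ x : G, orderOf x = 11 → Quo x (Equiv.Perm (Fin 5))

/-- all the heavy inputs -/
structure Facts (G : Type) [Group G] : Prop where
  sieve : Sieve
  loc : Loc G

/-- every nontrivial normal subgroup of `K` contains `S` -/
def Soc {K : Type*} [Group K] (S : Subgroup K) : Prop := ∀ N : Subgroup K, N.Normal → N = ⊥ ∨ S ≤ N

/-- the facts used on `L₂(31)` -/
structure I31 (K : Type) [Group K] : Prop where
  card : Nat.card K = 14880
  simple : IsSimpleGroup K
  frob : ∃ u h : K, orderOf u = 31 ∧ h * u * h⁻¹ = u ^ 9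
  elt : ∃ s : K, orderOf s = 16

/-- the facts used on `PGL₂(11)` -/
structure I11 (K : Type) [Group K] : Prop where
  card : Nat.card K = 1320
  soc : ∃ S : Subgroup K, Nat.card S = 660 ∧ Soc S
  frob : ∃ u h : K, orderOf u = 11 ∧ h ^ 5 = 1 ∧ h * u * h⁻¹ = u ^ 4
  no15 : ∀ s : K, orderOf s ≠ 15

/-- the facts used on `M₁₁` -/
structure IM (K : Type) [Group K] : Prop where
  card : Nat.card K = 7920
  simple : IsSimpleGroup K
  frob : ∃ u h : K, orderOf u = 11 ∧ h ^ 5 = 1 ∧ h * u * h⁻¹ = u ^ 4
  no15 : ∀ s : K, orderOf s ≠ 15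

/-- the facts used on `PGL₂(17)` -/
structure I17 (K : Type) [Group K] : Prop where
  card : Nat.card K = 4896
  soc : ∃ S : Subgroup K, Nat.card S = 2448 ∧ Soc S
  frob : ∃ u h : K, orderOf u = 17 ∧ h * u * h⁻¹ = u ^ 3

/-- the facts used on `L₃(3)` : the Frobenius group `13 : 3` and a Sylow `3`-subgroup `⟨a, b⟩` with centre `⟨z⟩` -/
structure I33 (K : Type) [Group K] : Prop where
  card : Nat.card K = 5616
  simple : IsSimpleGroup K
  frob : ∃ u h a b z : K, orderOf u = 13 ∧ h ^ 3 = 1 ∧ h * u * h⁻¹ = u ^ 3 ∧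
    a ^ 3 = 1 ∧ b ^ 3 = 1 ∧ orderOf z = 3 ∧ a * b = z * (b * a) ∧ a * z = z * a ∧ b * z = z * b ∧
    IsConj a z ∧ IsConj b z ∧ IsConj (a * b) h ∧ IsConj (a * b⁻¹) h

/-- what is delivered for `L₂(31)` -/
def Ex31 (G : Type) [Group G] : Prop := ∃ H : Subgroup G, Nonempty (H ≃* T31)
/-- what is delivered for `PGL₂(11)` -/
def Ex11 (G : Type) [Group G] : Prop := ∃ H : Subgroup G, Nonempty (H ≃* T11) ∧ NT H 11 ∧ NT H 5
/-- what is delivered for `M₁₁` -/
def ExM (G : Type) [Group G] : Prop := ∃ H : Subgroup G, Nonempty (H ≃* TM) ∧ NT H 11 ∧ NT H 5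
/-- what is delivered for `PGL₂(17)` -/
def Ex17 (G : Type) [Group G] : Prop := ∃ H : Subgroup G, Nonempty (H ≃* T17) ∧ NT H 17 ∧ NT H 9
/-- what is delivered for `L₃(3)` -/
def Ex33 (G : Type) [Group G] : Prop := ∃ H : Subgroup G, Nonempty (H ≃* T33) ∧ NT H 13 ∧ NT H 27

/-- a proper subgroup with order divisible by 47 has order dividing `23 |L₂(47)|` -/
def Gen47 (G : Type) [Group G] : Prop := ∀ X : Subgroup G, X ≠ ⊤ → 47 ∣ Nat.card X → Nat.card X ∣ 1193424

theorem Gen47.big {G : Type} [Group G] (h : Gen47 G) {K : Subgroup G} {x : G} (hx : x ∈ K)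
    (ho : ¬ orderOf x ∣ 1193424) : Big K := by
  intro X hKX h47
  by_contra hX
  exact ho ((orderOf_dvd_natCard X (hKX hx)).trans (h X hX h47))

/-- **the certificate of a test** : an element of order 47 in every overgroup of `K` which contains `t` -/
theorem Big.tst {G : Type*} [Group G] {K : Subgroup G} (h : Big K) {t w : G}
    (hw : ∀ X : Subgroup G, K ≤ X → t ∈ X → w ∈ X) (ho : orderOf w = 47) : Tst K t := by
  intro X hKX hX ht
  exact hX (h X hKX (ho ▸ orderOf_dvd_natCard X (hw X hKX ht)))

theorem NT.of_nta {G : Type*} [Group G] {K A : Subgroup G} {n : ℕ} (hA : A ≤ K) (hn : Nat.card A = n) (h : NTA K A) :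
    NT K n := ⟨A, hA, hn, h⟩

end Cfsg.Agent.BX.Max
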