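import Cfsg.Agent.BMx.PrimSym
import Cfsg.Agent.BX.Max.Iface
import Cfsg.Agent.FastGrp
import Cfsg.Agent.Prune
set_option linter.all false
open scoped Cfsg.Agent.FastGrp

/-!
# The normaliser tests at the primes 11, 13, 17 (light copy of `BMx.Prim`, for S5527)

`Tst K t` : no proper overgroup of `K` contains `t`.  `Quo x S` : `C(x) / ⟨x⟩ ≅ S`.
`nt11_full`, `nt11_half`, `nt13`, `nt17` : the test `NT K r` from a few elements of `N(⟨x⟩)` and their tests.
-/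

set_option autoImplicit false
set_option linter.unusedSectionVars false
set_option linter.style.haveILetI false

namespace Cfsg.Agent.BX.Max.Prim

open Subgroup Cfsg.Agent.BMx.Prim

variable {G : Type} [Group G] [Finite G]

theorem zp_le (x : G) : zpowers x ≤ centralizer ({x} : Set G) :=
  zpowers_le.2 (mem_centralizer_singleton_iff.2 rfl)

theorem zp_comm {x g z : G} (hg : g * x = x * g) (hz : z ∈ zpowers x) : g * z = z * g := by
  obtain ⟨k, rfl⟩ := hz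
  exact ((show Commute g x from hg).zpow_right k).eq

theorem zp_normal (x : G) : ((zpowers x).subgroupOf (centralizer ({x} : Set G))).Normal :=
  ⟨fun a ha g => by
    have h : (g : G) * a = a * g := zp_comm (mem_centralizer_singleton_iff.1 g.2) ha
    show (g : G) * a * (g : G)⁻¹ ∈ zpowers x
    rw [h, mul_inv_cancel_right]
    exact ha⟩

theorem quo_self (x : G) : ∃ (S : Type) (_ : Group S), Quo x S ∧
    Nat.card (centralizer ({x} : Set G)) = orderOf x * Nat.card S := by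
  have := zp_normal x
  refine ⟨_ ⧸ (zpowers x).subgroupOf (centralizer ({x} : Set G)), inferInstance,
    ⟨QuotientGroup.mk' _, QuotientGroup.mk'_surjective _, fun g => QuotientGroup.eq_one_iff g⟩, ?_⟩
  rw [← index_eq_card, ← card_mul_index ((zpowers x).subgroupOf (centralizer ({x} : Set G))),
    Nat.card_congr (subgroupOfEquivOfLe (zp_le x)).toEquiv, Nat.card_zpowers]

theorem quo_of_sub {x : G} {L : Subgroup G} (hL : L ≤ centralizer ({x} : Set G)) {S : Type} [Group S] (e : L ≃* S)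
    (hc : Nat.card (centralizer ({x} : Set G)) = orderOf x * Nat.card L) (hco : (orderOf x).Coprime (Nat.card L)) :
    Quo x S := by
  obtain ⟨Q, _, ⟨φ, hφ, hk⟩, hQ⟩ := quo_self x
  have : Finite Q := Finite.of_surjective φ hφ
  have hinj : Function.Injective (φ.comp (inclusion hL)) := by
    rw [injective_iff_map_eq_one]
    intro g hg
    have h1 : (g : G) ∈ zpowers x := (hk _).1 hg
    have h2 : orderOf (g : G) ∣ orderOf x := orderOf_dvd_of_mem_zpowers h1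
    have h3 : orderOf (g : G) ∣ Nat.card L := by rw [orderOf_coe]; exact orderOf_dvd_natCard g
    exact Subtype.ext (orderOf_eq_one_iff.1 (Nat.eq_one_of_dvd_coprimes hco h2 h3))
  have hbij : Function.Bijective (φ.comp (inclusion hL)) := by
    refine hinj.bijective_of_nat_card_le ?_
    exact (Nat.eq_of_mul_eq_mul_left (orderOf_pos x) (hQ.symm.trans hc)).le
  let f := (MulEquiv.ofBijective _ hbij).symm.trans e
  exact ⟨f.toMonoidHom.comp φ, f.surjective.comp hφ, fun g => (MulEquiv.map_eq_one_iff f).trans (hk g)⟩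

theorem mem_norm {x u : G} {e : ℕ} (hu : u * x = x ^ e * u) : u ∈ normalizer ((zpowers x : Subgroup G) : Set G) := by
  apply mem_normalizer_fintype
  rintro _ ⟨k, rfl⟩
  have h : u * x * u⁻¹ = x ^ e := mul_inv_eq_iff_eq_mul.2 hu
  show u * x ^ k * u⁻¹ ∈ zpowers x
  rw [← conj_zpow, h]
  exact zpow_mem (pow_mem (mem_zpowers x) e) k

theorem exp_mul {x u v : G} {e f : ℕ} (hu : u * x = x ^ e * u) (hv : v * x = x ^ f * v) :
    u * v * x = x ^ (e * f) * (u * v) := by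
  have h : u * x * u⁻¹ = x ^ e := mul_inv_eq_iff_eq_mul.2 hu
  calc u * v * x = u * x ^ f * u⁻¹ * (u * v) := by rw [mul_assoc, hv]; group
    _ = x ^ (e * f) * (u * v) := by rw [← conj_pow, h, pow_mul]

theorem exp_pow {x u : G} {e : ℕ} (hu : u * x = x ^ e * u) (j : ℕ) : u ^ j * x = x ^ e ^ j * u ^ j := by
  induction j with
  | zero => simp
  | succ j ih => rw [pow_succ, pow_succ e]; exact exp_mul ih hu

theorem exists_exp {x y : G} {r : ℕ} (hr : r.Prime) (hx : orderOf x = r)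
    (hy : y ∈ normalizer ((zpowers x : Subgroup G) : Set G)) : ∃ k < r, k ≠ 0 ∧ y * x = x ^ k * y := by
  classical
  have h1 : y * x * y⁻¹ ∈ zpowers x := (mem_normalizer_iff.1 hy x).1 (mem_zpowers x)
  rw [mem_zpowers_iff_mem_range_orderOf, hx, Finset.mem_image] at h1
  obtain ⟨k, hk, h2⟩ := h1
  refine ⟨k, Finset.mem_range.1 hk, ?_, mul_inv_eq_iff_eq_mul.1 h2.symm⟩
  rintro rfl
  rw [pow_zero, eq_comm, mul_inv_eq_one, mul_eq_left] at h2
  rw [h2, orderOf_one] at hx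
  exact hr.one_lt.ne hx

/-- **The reduction to the centraliser.** -/
theorem core {K X : Subgroup G} {x u : G} {r e : ℕ} (hr : r.Prime) (hx : orderOf x = r) (hKX : K ≤ X) (hxK : x ∈ K)
    (huK : u ∈ K) (hu : u * x = x ^ e * u) (hC : ∀ g ∈ X, g * x = x * g → g ∈ zpowers x)
    {P : Prop} (hw : P → ∀ y ∈ X, y * x ≠ x⁻¹ * y)
    (hall : ∀ k < r, k ≠ 0 → (∃ j < r, (e ^ j * k) % r = 1) ∨ (P ∧ ∃ j < r, ∃ m < 3, (e ^ j * k ^ m + 1) % r = 0)) :
    X ⊓ normalizer ((zpowers x : Subgroup G) : Set G) ≤ K := by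
  intro y hy
  obtain ⟨k, hk, hk0, h1⟩ := exists_exp hr hx hy.2
  rcases hall k hk hk0 with ⟨j, -, hj⟩ | ⟨hP, j, -, m, -, hj⟩
  · have h2 := exp_mul (exp_pow hu j) h1
    rw [← pow_mod_orderOf x, hx, hj, pow_one] at h2
    have h3 := zpowers_le.2 hxK (hC _ (mul_mem (hKX (pow_mem huK j)) hy.1) h2)
    exact (mul_mem_cancel_left (pow_mem huK j)).1 h3
  · refine absurd ?_ (hw hP _ (mul_mem (hKX (pow_mem huK j)) (pow_mem hy.1 m)))
    rw [exp_mul (exp_pow hu j) (exp_pow h1 m)]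
    congr 1
    rw [eq_inv_iff_mul_eq_one, ← pow_succ, ← pow_mod_orderOf, hx, hj, pow_zero]

theorem cj_mem {x u g : G} (hu : u ∈ normalizer ((zpowers x : Subgroup G) : Set G)) (hg : g ∈ centralizer ({x} : Set G)) :
    u * g * u⁻¹ ∈ centralizer ({x} : Set G) := by
  have h1 : u⁻¹ * x * u⁻¹⁻¹ ∈ zpowers x := (mem_normalizer_iff.1 (inv_mem hu) x).1 (mem_zpowers x)
  have h2 := zp_comm (mem_centralizer_singleton_iff.1 hg) h1
  rw [mem_centralizer_singleton_iff]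
  calc u * g * u⁻¹ * x = u * (g * (u⁻¹ * x * u⁻¹⁻¹)) * u⁻¹ := by group
    _ = x * (u * g * u⁻¹) := by rw [h2]; group

/-- conjugation on the centraliser -/
def cj {x u : G} (hu : u ∈ normalizer ((zpowers x : Subgroup G) : Set G)) :
    ↥(centralizer ({x} : Set G)) →* ↥(centralizer ({x} : Set G)) where
  toFun g := ⟨u * g * u⁻¹, cj_mem hu g.2⟩
  map_one' := Subtype.ext (by simp)
  map_mul' a b := Subtype.ext (by simp [mul_assoc])

theorem eq_of_sq {x b b' : G} (hx : Odd (orderOf x)) (hb : b * x = x * b) (h1 : b * b = 1) (h2 : b' * b' = 1)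
    (h : b⁻¹ * b' ∈ zpowers x) : b' = b := by
  have h3 : Commute b (b⁻¹ * b') := zp_comm hb h
  have h4 : (b⁻¹ * b') ^ 2 = 1 := by
    have h5 := h3.mul_pow 2
    rwa [mul_inv_cancel_left, pow_two, pow_two, h1, h2, one_mul, eq_comm] at h5
  have h5 := Nat.eq_one_of_dvd_coprimes (Nat.coprime_two_left.2 hx) (orderOf_dvd_of_pow_eq_one h4)
    (orderOf_dvd_of_mem_zpowers h)
  exact (inv_mul_eq_one.1 (orderOf_eq_one_iff.1 h5)).symm

theorem mem_of_norm {S : Type} [Group S] {p : ℕ} (M : Mod S p) {T : Subgroup S} {c e : S} (hc : c ^ p = 1)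
    (hT : ∀ π ∈ T, c * π * c⁻¹ ∈ T) (he : e ∈ T) (h1 : e ^ p = 1) (h2 : e ≠ 1) : c ∈ T := by
  have := M.fin
  have := Fact.mk M.prime
  have hN : c ∈ normalizer (T : Set S) := mem_normalizer_fintype hT
  have h3 : p ∣ Nat.card (T.subgroupOf (normalizer (T : Set S))) := by
    rw [Nat.card_congr (subgroupOfEquivOfLe le_normalizer).toEquiv, ← orderOf_eq_prime h1 h2]
    exact orderOf_mk e he ▸ orderOf_dvd_natCard (⟨e, he⟩ : T)
  have h4 : ¬ p ∣ (T.subgroupOf (normalizer (T : Set S))).index := fun h => M.sq (by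
    refine Dvd.dvd.trans ?_ (card_subgroup_dvd_card (normalizer (T : Set S)))
    rw [← card_mul_index (T.subgroupOf (normalizer (T : Set S))), pow_two]
    exact Nat.mul_dvd_mul h3 h)
  have h5 : c ^ (T.subgroupOf (normalizer (T : Set S))).index ∈ T :=
    (T.subgroupOf (normalizer (T : Set S))).pow_index_mem ⟨c, hN⟩
  obtain ⟨m, hm⟩ := exists_pow_eq_self_of_coprime (x := c) (n := (T.subgroupOf (normalizer (T : Set S))).index)
    (((M.prime.coprime_iff_not_dvd.2 h4).symm).coprime_dvd_right (orderOf_dvd_of_pow_eq_one hc))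
  rw [← hm]
  exact pow_mem h5 m

section model

variable {S : Type} [Group S] {p : ℕ} (M : Mod S p) {K X : Subgroup G} {x u σ b : G}
  {φ : ↥(centralizer ({x} : Set G)) →* S} (hφ : Function.Surjective φ) (hk : ∀ g, φ g = 1 ↔ (g : G) ∈ zpowers x)

include hk in
theorem lift_mem (hxX : x ∈ X) {g : ↥(centralizer ({x} : Set G))}
    (h : φ g ∈ (X.subgroupOf (centralizer ({x} : Set G))).map φ) : (g : G) ∈ X := by
  obtain ⟨g', hg', e⟩ := h
  have h1 : φ (g'⁻¹ * g) = 1 := by rw [map_mul, map_inv, e, inv_mul_cancel]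
  have h2 : ((g' : G)⁻¹ * g) ∈ X := zpowers_le.2 hxX ((hk _).1 h1)
  exact (mul_mem_cancel_left (inv_mem (show (g' : G) ∈ X from hg'))).1 h2

include M hφ hk in
/-- the action of `u` on the quotient is conjugation by an element of order `p` -/
theorem setup (hx : Odd (orderOf x)) (hu : u ∈ normalizer ((zpowers x : Subgroup G) : Set G))
    (hσ : σ ∈ centralizer ({x} : Set G)) (hσp : σ ^ p = 1) (hσu : σ * u = u * σ) (hσ1 : σ ∉ zpowers x)
    (hb : b ∈ centralizer ({x} : Set G)) (hb2 : b * b = 1) (hbu : b * u ≠ u * b) :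
    ∃ c : S, c ^ p = 1 ∧ c ≠ 1 ∧ (∀ g, φ (cj hu g) = c * φ g * c⁻¹) ∧ c * φ ⟨b, hb⟩ ≠ φ ⟨b, hb⟩ * c ∧
      φ ⟨σ, hσ⟩ ∈ zpowers c ∧ c ∈ zpowers (φ ⟨σ, hσ⟩) := by
  have hker : ∀ g, φ (cj hu g) = 1 ↔ φ g = 1 := fun g => by
    rw [hk, hk]
    exact (mem_normalizer_iff.1 hu g).symm
  let α : S →* S := φ.liftOfSurjective hφ ⟨φ.comp (cj hu), fun g hg => (hker g).2 hg⟩
  have hα : ∀ g, α (φ g) = φ (cj hu g) := fun g => φ.liftOfRightInverse_comp_apply _ _ _ g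
  have hinj : Function.Injective α := by
    rw [injective_iff_map_eq_one]
    intro s hs
    obtain ⟨g, rfl⟩ := hφ s
    exact (hker g).1 ((hα g).symm.trans hs)
  obtain ⟨c, hc⟩ := M.inn α hinj
  have h1 : ∀ g, φ (cj hu g) = c * φ g * c⁻¹ := fun g => (hα g).symm.trans (hc _)
  have h2 : c * φ ⟨σ, hσ⟩ = φ ⟨σ, hσ⟩ * c := by
    have h3 : cj hu ⟨σ, hσ⟩ = ⟨σ, hσ⟩ := Subtype.ext (mul_inv_eq_iff_eq_mul.2 hσu.symm)
    have h4 := h1 ⟨σ, hσ⟩
    rw [h3] at h4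
    exact mul_inv_eq_iff_eq_mul.1 h4.symm
  have h3 : φ ⟨σ, hσ⟩ ^ p = 1 := by
    rw [← map_pow, ← map_one φ]
    congr 1
    exact Subtype.ext hσp
  have h4 : c ∈ zpowers (φ ⟨σ, hσ⟩) := M.cent _ _ h3 (fun h => hσ1 ((hk _).1 h)) h2.symm
  have h5 : c ^ p = 1 := by
    obtain ⟨i, rfl⟩ := h4
    show (φ ⟨σ, hσ⟩ ^ i) ^ p = 1
    rw [← zpow_natCast, ← zpow_mul, mul_comm, zpow_mul, zpow_natCast, h3, one_zpow]
  have h6 : c * φ ⟨b, hb⟩ ≠ φ ⟨b, hb⟩ * c := by
    intro h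
    have h7 : φ ((⟨b, hb⟩ : ↥(centralizer ({x} : Set G)))⁻¹ * cj hu ⟨b, hb⟩) = 1 := by
      rw [map_mul, map_inv, h1, h]
      group
    have h8 : u * b * u⁻¹ = b := eq_of_sq hx (mem_centralizer_singleton_iff.1 hb) hb2 (by
      calc u * b * u⁻¹ * (u * b * u⁻¹) = u * (b * b) * u⁻¹ := by group
        _ = 1 := by rw [hb2]; group) ((hk _).1 h7)
    exact hbu (mul_inv_eq_iff_eq_mul.1 h8).symm
  have h7 : c ≠ 1 := fun h => h6 (by rw [h, one_mul, mul_one])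
  exact ⟨c, h5, h7, h1, h6, M.cent _ _ h5 h7 h2, h4⟩

theorem inv_T (hu : u ∈ normalizer ((zpowers x : Subgroup G) : Set G)) (huX : u ∈ X) {c : S}
    (h1 : ∀ g, φ (cj hu g) = c * φ g * c⁻¹) : ∀ π ∈ (X.subgroupOf (centralizer ({x} : Set G))).map φ,
      c * π * c⁻¹ ∈ (X.subgroupOf (centralizer ({x} : Set G))).map φ := by
  rintro _ ⟨g, hg, rfl⟩
  exact ⟨cj hu g, mul_mem (mul_mem huX hg) (inv_mem huX), h1 g⟩

include M hk in
/-- an element inverting `x` leads to `w` -/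
theorem w_mem (hu : u ∈ normalizer ((zpowers x : Subgroup G) : Set G)) (hxX : x ∈ X) (huX : u ∈ X)
    (hσ : σ ∈ centralizer ({x} : Set G)) (hσp : σ ^ p = 1) {c : S} (hc : c ^ p = 1) (hc1 : c ≠ 1)
    (h1 : ∀ g, φ (cj hu g) = c * φ g * c⁻¹) (hcσ : c ∈ zpowers (φ ⟨σ, hσ⟩))
    (hC : ∀ g ∈ X, g * x = x * g → g ∈ zpowers x) {w : G} (hw2 : w * w = 1) (hwx : w * x = x⁻¹ * w)
    (hwu : w * u = u * w) (hwσ : w * σ = σ * w) {y : G} (hy : y ∈ X) (hyx : y * x = x⁻¹ * y) : w ∈ X := by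
  have hwi : w⁻¹ = w := inv_eq_of_mul_eq_one_left hw2
  have hinv : ∀ a : G, a * x = x⁻¹ * a → ∀ z ∈ zpowers x, a * z = z⁻¹ * a := by
    rintro a ha _ ⟨k, rfl⟩
    have h2 : a * x * a⁻¹ = x⁻¹ := mul_inv_eq_iff_eq_mul.2 ha
    show a * x ^ k = (x ^ k)⁻¹ * a
    rw [← inv_zpow, ← h2, conj_zpow]
    group
  have hg : w * y ∈ centralizer ({x} : Set G) := by
    rw [mem_centralizer_singleton_iff, mul_assoc, hyx, ← mul_assoc, hinv w hwx _ (inv_mem (mem_zpowers x)), inv_inv,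
      mul_assoc]
  have h2 : u⁻¹ * x * u⁻¹⁻¹ ∈ zpowers x := (mem_normalizer_iff.1 (inv_mem hu) x).1 (mem_zpowers x)
  have h3 : y⁻¹ * (u * y * u⁻¹) ∈ zpowers x := by
    refine hC _ (mul_mem (inv_mem hy) (mul_mem (mul_mem huX hy) (inv_mem huX))) ?_
    calc y⁻¹ * (u * y * u⁻¹) * x = y⁻¹ * u * (y * (u⁻¹ * x * u⁻¹⁻¹)) * u⁻¹ := by group
      _ = y⁻¹ * (x⁻¹ * y) * (y⁻¹ * (u * y * u⁻¹)) := by rw [hinv y hyx _ h2]; group
      _ = x * (y⁻¹ * (u * y * u⁻¹)) := by rw [← hyx]; group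
  have h4 : c * φ ⟨w * y, hg⟩ = φ ⟨w * y, hg⟩ * c := by
    have h5 : φ ((⟨w * y, hg⟩ : ↥(centralizer ({x} : Set G)))⁻¹ * cj hu ⟨w * y, hg⟩) = 1 := by
      rw [hk]
      show (w * y)⁻¹ * (u * (w * y) * u⁻¹) ∈ zpowers x
      rw [← mul_assoc u, ← hwu]
      convert h3 using 1
      group
    rw [map_mul, map_inv, h1, inv_mul_eq_one] at h5
    exact mul_inv_eq_iff_eq_mul.1 h5.symm
  obtain ⟨j, hj⟩ := zpowers_le.2 hcσ (M.cent _ _ hc hc1 h4)
  have h5 : φ ((⟨w * y, hg⟩ : ↥(centralizer ({x} : Set G)))⁻¹ * ⟨σ, hσ⟩ ^ j) = 1 := by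
    rw [map_mul, map_inv, map_zpow, inv_mul_eq_one]
    exact hj.symm
  have h6 : (w * y)⁻¹ * σ ^ j ∈ X := zpowers_le.2 hxX ((hk _).1 h5)
  have h7 : w * σ ^ j ∈ X := by
    have h8 := mul_mem hy h6
    rwa [mul_inv_rev, hwi, ← mul_assoc, mul_inv_cancel_left] at h8
  have h8 := pow_mem h7 p
  obtain ⟨m, hm⟩ := M.odd
  rwa [((show Commute w σ from hwσ).zpow_right j).mul_pow, ← zpow_natCast (σ ^ j), ← zpow_mul, mul_comm j, zpow_mul,
    zpow_natCast, hσp, one_zpow, mul_one, hm, pow_succ, pow_mul, pow_two, hw2, one_pow, one_mul] at h8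

end model

/-- the common part of the two tests at 11 -/
theorem nt11 {K : Subgroup G} {x u σ b : G} {e : ℕ} (hx : orderOf x = 11) (Q : Quo x S5) (hxK : x ∈ K) (huK : u ∈ K)
    (hu : u * x = x ^ e * u) (hσx : σ * x = x * σ) (hσ5 : σ ^ 5 = 1) (hσu : σ * u = u * σ)
    (hbx : b * x = x * b) (hb2 : b * b = 1) (hbu : b * u ≠ u * b) (tσ : Tst K σ) {P : Prop}
    (hw : P → ∃ w : G, w * w = 1 ∧ w * x = x⁻¹ * w ∧ w * u = u * w ∧ w * σ = σ * w ∧ Tst K w)
    (hall : ∀ k < 11, k ≠ 0 → (∃ j < 11, (e ^ j * k) % 11 = 1) ∨ (P ∧ ∃ j < 11, ∃ m < 3, (e ^ j * k ^ m + 1) % 11 = 0)) :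
    NT K 11 := by
  obtain ⟨φ, hφ, hk⟩ := Q
  refine ⟨zpowers x, zpowers_le.2 hxK, by rw [Nat.card_zpowers, hx], fun X hKX hX => ?_⟩
  have hσ := mem_centralizer_singleton_iff.2 hσx
  obtain ⟨c, h1, h2, h3, -, h5, h6⟩ := setup mod5 hφ hk (by rw [hx]; decide) (mem_norm hu) hσ hσ5 hσu
    (fun h => tσ X hKX hX (hKX (zpowers_le.2 hxK h))) (mem_centralizer_singleton_iff.2 hbx) hb2 hbu
  have hT := inv_T (mem_norm hu) (hKX huK) h3
  have hC : ∀ g ∈ X, g * x = x * g → g ∈ zpowers x := by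
    intro g hg hgx
    by_contra hn
    obtain ⟨s, hs, h7, h8⟩ := five h1 h2 hT ⟨⟨g, mem_centralizer_singleton_iff.2 hgx⟩, hg, rfl⟩ fun h => hn ((hk _).1 h)
    exact tσ X hKX hX (lift_mem hk (hKX hxK) (zpowers_le.2 (mem_of_norm mod5 h1 hT hs h7 h8) h5))
  refine core (by norm_num) hx hKX hxK huK hu hC (fun hP y hy hyx => ?_) hall
  obtain ⟨w, w1, w2, w3, w4, tw⟩ := hw hP
  exact tw X hKX hX (w_mem mod5 hk (mem_norm hu) (hKX hxK) (hKX huK) hσ hσ5 h1 h2 h3 h6 hC w1 w2 w3 w4 hy hyx)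

/-- **The test at 11 for `PGL₂(11)`**: one test. -/
theorem nt11_full {K : Subgroup G} {x u σ b : G} (hx : orderOf x = 11) (Q : Quo x S5) (hxK : x ∈ K) (huK : u ∈ K)
    (hu : u * x = x ^ 2 * u) (hσx : σ * x = x * σ) (hσ5 : σ ^ 5 = 1) (hσu : σ * u = u * σ)
    (hbx : b * x = x * b) (hb2 : b * b = 1) (hbu : b * u ≠ u * b) (tσ : Tst K σ) : NT K 11 :=
  nt11 hx Q hxK huK hu hσx hσ5 hσu hbx hb2 hbu tσ (P := False) (fun h => h.elim) (by decide +kernel)

/-- **The test at 11 for `M₁₁`**: two tests. -/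
theorem nt11_half {K : Subgroup G} {x u σ b w : G} (hx : orderOf x = 11) (Q : Quo x S5) (hxK : x ∈ K) (huK : u ∈ K)
    (hu : x ^ 2 * u * x = u) (hσx : σ * x = x * σ) (hσ5 : σ ^ 5 = 1) (hσu : σ * u = u * σ)
    (hbx : b * x = x * b) (hb2 : b * b = 1) (hbu : b * u ≠ u * b) (hw2 : w * w = 1) (hwx : x * w * x = w)
    (hwu : w * u = u * w) (hwσ : w * σ = σ * w) (tσ : Tst K σ) (tw : Tst K w) : NT K 11 := by
  refine nt11 (e := 9) hx Q hxK huK ?_ hσx hσ5 hσu hbx hb2 hbu tσ (P := True)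
    (fun _ => ⟨w, hw2, by rw [eq_inv_mul_iff_mul_eq, ← mul_assoc, hwx], hwu, hwσ, tw⟩) (by decide +kernel)
  have h11 : x ^ 11 = 1 := hx ▸ pow_orderOf_eq_one x
  calc u * x = x ^ 11 * u * x := by rw [h11, one_mul]
    _ = x ^ 9 * (x ^ 2 * u * x) := by group
    _ = x ^ 9 * u := by rw [hu]

/-- **The test at 13 for `L₃(3)`**: three tests. -/
theorem nt13 {K : Subgroup G} {x u σ b w : G} (hx : orderOf x = 13) (Q : Quo x S4) (hxK : x ∈ K) (huK : u ∈ K)
    (hu : u * x = x ^ 3 * u) (hσx : σ * x = x * σ) (hσ3 : σ ^ 3 = 1) (hσu : σ * u = u * σ)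
    (hbx : b * x = x * b) (hb2 : b * b = 1) (hbu : b * u ≠ u * b) (hbb : b * (u * b * u⁻¹) = u * b * u⁻¹ * b)
    (hw2 : w * w = 1) (hwx : x * w * x = w) (hwu : w * u = u * w) (hwσ : w * σ = σ * w)
    (tσ : Tst K σ) (tb : Tst K b) (tw : Tst K w) : NT K 13 := by
  obtain ⟨φ, hφ, hk⟩ := Q
  refine ⟨zpowers x, zpowers_le.2 hxK, by rw [Nat.card_zpowers, hx], fun X hKX hX => ?_⟩
  have hσ := mem_centralizer_singleton_iff.2 hσx
  have hb := mem_centralizer_singleton_iff.2 hbx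
  obtain ⟨c, h1, h2, h3, h4, h5, h6⟩ := setup mod4 hφ hk (by rw [hx]; decide) (mem_norm hu) hσ hσ3 hσu
    (fun h => tσ X hKX hX (hKX (zpowers_le.2 hxK h))) hb hb2 hbu
  have hT := inv_T (mem_norm hu) (hKX huK) h3
  have hC : ∀ g ∈ X, g * x = x * g → g ∈ zpowers x := by
    intro g hg hgx
    by_contra hn
    rcases four h1 h2 (b := φ ⟨b, hb⟩) (by rw [← map_mul, ← map_one φ]; exact congrArg φ (Subtype.ext hb2)) h4
      (by rw [← h3, ← map_mul, ← map_mul]; exact congrArg φ (Subtype.ext hbb)) hT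
      ⟨⟨g, mem_centralizer_singleton_iff.2 hgx⟩, hg, rfl⟩ (fun h => hn ((hk _).1 h)) with ⟨s, hs, h7, h8⟩ | h7
    · exact tσ X hKX hX (lift_mem hk (hKX hxK) (zpowers_le.2 (mem_of_norm mod4 h1 hT hs h7 h8) h5))
    · exact tb X hKX hX (lift_mem hk (hKX hxK) h7)
  refine core (by norm_num) hx hKX hxK huK hu hC (P := True) (fun _ y hy hyx => ?_) (by decide +kernel)
  exact tw X hKX hX (w_mem mod4 hk (mem_norm hu) (hKX hxK) (hKX huK) hσ hσ3 h1 h2 h3 h6 hC hw2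
    (by rw [eq_inv_mul_iff_mul_eq, ← mul_assoc, hwx]) hwu hwσ hy hyx)

theorem four_elts {Q : Type} [Group Q] (hQ : Nat.card Q = 4) {b c : Q} (hb : b ≠ 1) (hc : c ≠ 1) (hbc : b ≠ c)
    (hb2 : b * b = 1) (y : Q) : y = 1 ∨ y = b ∨ y = c ∨ y = b * c := by
  classical
  have : Finite Q := Nat.finite_of_card_ne_zero (by rw [hQ]; norm_num)
  have := Fintype.ofFinite Q
  have h1 : (1 : Q) ≠ b * c := fun h => hbc (mul_left_cancel (a := b) (hb2.trans h))
  have h2 : b ≠ b * c := fun h => hc (left_eq_mul.1 h)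
  have h3 : c ≠ b * c := fun h => hb (right_eq_mul.1 h)
  have h4 : ({1, b, c, b * c} : Finset Q).card = 4 :=
    Finset.card_eq_four.2 ⟨1, b, c, b * c, hb.symm, hc.symm, h1, hbc, h2, h3, rfl⟩
  have h5 : y ∈ ({1, b, c, b * c} : Finset Q) := by
    rw [Finset.eq_univ_of_card ({1, b, c, b * c} : Finset Q) (by rw [h4, ← Nat.card_eq_fintype_card, hQ])]
    exact Finset.mem_univ y
  simpa using h5

/-- **The test at 17 for `PGL₂(17)`**: one test. -/
theorem nt17 {K : Subgroup G} {x u b : G} (hx : orderOf x = 17) (hc : Nat.card (centralizer ({x} : Set G)) = 68)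
    (hxK : x ∈ K) (huK : u ∈ K) (hu : u * x = x ^ 3 * u) (hbx : b * x = x * b) (hb2 : b * b = 1)
    (t : Tst K (b * (u * b * u⁻¹))) : NT K 17 := by
  obtain ⟨Q, _, ⟨φ, hφ, hk⟩, hQ⟩ := quo_self x
  have hQ4 : Nat.card Q = 4 := by
    rw [hc, hx] at hQ
    omega
  have hodd : Odd (orderOf x) := by rw [hx]; decide
  refine ⟨zpowers x, zpowers_le.2 hxK, by rw [Nat.card_zpowers, hx], fun X hKX hX => ?_⟩
  have hb := mem_centralizer_singleton_iff.2 hbx
  have hN := mem_norm hu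
  have key : b ∉ X := fun h => t X hKX hX (mul_mem h (mul_mem (mul_mem (hKX huK) h) (inv_mem (hKX huK))))
  have key' : u * b * u⁻¹ ∉ X := fun h =>
    key ((mul_mem_cancel_left (hKX huK)).1 ((mul_mem_cancel_right (inv_mem (hKX huK))).1 h))
  refine core (by norm_num) hx hKX hxK huK hu (fun g hg hgx => ?_) (P := False) (fun h => h.elim) (by decide +kernel)
  have hT : φ ⟨g, mem_centralizer_singleton_iff.2 hgx⟩ ∈ (X.subgroupOf (centralizer ({x} : Set G))).map φ :=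
    ⟨_, hg, rfl⟩
  rcases four_elts hQ4 (b := φ ⟨b, hb⟩) (c := φ (cj hN ⟨b, hb⟩))
    (fun h => key (hKX (zpowers_le.2 hxK ((hk _).1 h)))) (fun h => key' (hKX (zpowers_le.2 hxK ((hk _).1 h))))
    (fun h => t X hKX hX (by
      have h1 : φ ((⟨b, hb⟩ : ↥(centralizer ({x} : Set G))) * cj hN ⟨b, hb⟩) = 1 := by
        rw [map_mul, ← h, ← map_mul, ← map_one φ]
        exact congrArg φ (Subtype.ext hb2)
      exact hKX (zpowers_le.2 hxK ((hk _).1 h1))))
    (by rw [← map_mul, ← map_one φ]; exact congrArg φ (Subtype.ext hb2))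
    (φ ⟨g, mem_centralizer_singleton_iff.2 hgx⟩) with h | h | h | h
  · exact (hk _).1 h
  · exact absurd (lift_mem hk (hKX hxK) (h ▸ hT)) key
  · exact absurd (lift_mem hk (hKX hxK) (h ▸ hT)) key'
  · rw [h, ← map_mul] at hT
    exact absurd (lift_mem hk (hKX hxK) hT) (t X hKX hX)

end Cfsg.Agent.BX.Max.Prim
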