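import Cfsg.Agent.BX.Max.Iface
import Cfsg.Agent.BX.Aff.Frob
set_option linter.all false

/-!
# The affine case of the maximality proofs (helper25, for S5527)

* `aff_frob` : a group normalised by a Frobenius group `p : q`, with trivial fixed points of both factors, is trivial.
-/

set_option autoImplicit false

namespace Cfsg.Agent.BX.Max

open Subgroup Cfsg.Agent.BX.Aff

variable {G : Type} [Group G] [Finite G]

theorem eq_one_of_inf {N : Subgroup G} {u : G} (h1 : N ⊓ centralizer ({u} : Set G) = ⊥) :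
    ∀ a ∈ N, u * a = a * u → a = 1 := fun a ha hc => by
  have : a ∈ N ⊓ centralizer ({u} : Set G) := ⟨ha, mem_centralizer_singleton_iff.2 hc.symm⟩
  rwa [h1, mem_bot] at this

/-- a fixed point free `p`-group : `|N| ≡ 1 (mod p)` -/
theorem dvd_card_sub_one {p : ℕ} [Fact p.Prime] {N P : Subgroup G} (hP : IsPGroup p P)
    (hPN : P ≤ normalizer (N : Set G)) (hC : ∀ n ∈ N, (∀ u ∈ P, u * n = n * u) → n = 1) : p ∣ Nat.card N - 1 := by
  by_contra hd
  have hc : Nat.card ↥((N : Set G) \ {1}) = Nat.card N - 1 := by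
    rw [Nat.card_coe_set_eq, Set.ncard_diff_singleton_of_mem N.one_mem]
    rfl
  obtain ⟨t, ht, h⟩ := fix_of_not_dvd hP (T := (N : Set G) \ {1}) (fun u hu t ht =>
    ⟨(mem_normalizer_iff.1 (hPN hu) t).1 ht.1, fun h => ht.2 (by
      have h' : u * t * u⁻¹ = 1 := h
      show t = 1
      calc t = u⁻¹ * (u * t * u⁻¹) * u := by group
        _ = 1 := by rw [h']; group)⟩) (by rw [hc]; exact hd)
  exact ht.2 (hC t ht.1 h)

theorem not_dvd_of_sub_one {p n : ℕ} (hp : p.Prime) (hn : 0 < n) (h : p ∣ n - 1) : ¬ p ∣ n := fun h' => by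
  have h1 : p ∣ n - (n - 1) := Nat.dvd_sub h' h
  rw [show n - (n - 1) = 1 by omega] at h1
  exact hp.one_lt.ne' (Nat.dvd_one.1 h1)

theorem isP_zpowers {p : ℕ} {u : G} (hu : orderOf u = p) : IsPGroup p (zpowers u) :=
  IsPGroup.of_card (n := 1) (by rw [Nat.card_zpowers, hu, pow_one])

theorem dvd_card_sub_one' {p : ℕ} (hp : p.Prime) {N : Subgroup G} {u : G} (hu : orderOf u = p)
    (huN : u ∈ normalizer (N : Set G)) (h1 : N ⊓ centralizer ({u} : Set G) = ⊥) : p ∣ Nat.card N - 1 := by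
  haveI := Fact.mk hp
  exact dvd_card_sub_one (isP_zpowers hu) (zpowers_le.2 huN)
    fun n hn hc => eq_one_of_inf h1 n hn (hc u (mem_zpowers u))

/-- **The affine case with a Frobenius group `p : q`.** -/
theorem aff_frob {N : Subgroup G} {u h : G} {p q e : ℕ} (hp : p.Prime) (hq : q.Prime) (hu : orderOf u = p)
    (hh : h ^ q = 1) (he : h * u * h⁻¹ = u ^ e) (hne : h * u ≠ u * h) (huN : u ∈ normalizer (N : Set G))
    (hhN : h ∈ normalizer (N : Set G)) (h1 : N ⊓ centralizer ({u} : Set G) = ⊥)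
    (h2 : N ⊓ centralizer ({h} : Set G) = ⊥) : N = ⊥ := by
  by_contra hN
  have hk : ∀ j, 0 < j → j < q → e ^ j % p ≠ 1 := fun j j0 jq hj => by
    have h3 := conj_pow_pow he j
    rw [← pow_mod_orderOf u, hu, hj, pow_one] at h3
    have h4 : Commute (h ^ j) u := mul_inv_eq_iff_eq_mul.1 h3
    obtain ⟨m, hm⟩ := exists_pow_eq_self_of_coprime (x := h) (n := j)
      (((Nat.coprime_of_lt_prime j0.ne' jq hq).symm).coprime_dvd_right (orderOf_dvd_of_pow_eq_one hh))
    apply hne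
    rw [← hm]
    exact (h4.pow_left m).eq
  obtain ⟨a, ha, a1, hc⟩ := exists_fix_of_fpf hp hq.pos (hu ▸ pow_orderOf_eq_one u) hh he hk hN
    (not_dvd_of_sub_one hp Nat.card_pos (dvd_card_sub_one' hp hu huN h1)) (Nm.of_mem huN) (Nm.of_mem hhN)
    (eq_one_of_inf h1)
  exact a1 (eq_one_of_inf h2 a ha hc)

end Cfsg.Agent.BX.Max
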