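import Cfsg.Agent.BX.Max.Core
set_option linter.all false

/-!
# The five small groups inside a proper overgroup (helper1, for S5527)

`Aff` collects the lemmas on normal subgroups which meet the small group trivially.
`amb31`, `amb11`, `ambM`, `amb17` : the small group is the whole of the ambient group `X`.
-/

set_option autoImplicit false
set_option maxRecDepth 100000

namespace Cfsg.Agent.BX.Max

open Subgroup

/-- the lemmas on fixed point free actions -/
structure Aff : Prop where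
  frob : ∀ (G : Type) [Group G] [Finite G] (N : Subgroup G) (u h : G) (p q e : ℕ), p.Prime → q.Prime → orderOf u = p →
    h ^ q = 1 → h * u * h⁻¹ = u ^ e → h * u ≠ u * h → u ∈ normalizer (N : Set G) → h ∈ normalizer (N : Set G) →
    N ⊓ centralizer {u} = ⊥ → N ⊓ centralizer {h} = ⊥ → N = ⊥
  lin : ∀ (G : Type) [Group G] [Finite G], Nat.card G ∣ nB → PRankLE 2 14 G → ∀ (N : Subgroup G) (u h : G) (p e : ℕ),
    p.Prime → orderOf u = p → h * u * h⁻¹ = u ^ e → (∀ i < 15, ∀ j < 15, e ^ i % p = e ^ j % p → i = j) →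
    u ∈ normalizer (N : Set G) → h ∈ normalizer (N : Set G) → N ⊓ centralizer {u} = ⊥ → N = ⊥
  a47 : ∀ (G : Type) [Group G] [Finite G], Nat.card G ∣ nB → PRankLE 2 14 G → ∀ (N : Subgroup G) (u : G),
    orderOf u = 47 → u ∈ normalizer (N : Set G) → N ⊓ centralizer {u} = ⊥ → N = ⊥

/-- the ambient group -/
structure Amb (X : Type) [Group X] : Prop where
  dvd : Nat.card X ∣ nB
  ne : Nat.card X ≠ nB
  rank : PRankLE 2 14 X

/-- the normaliser test in the ambient group -/
def NA {X : Type} [Group X] (H : Subgroup X) (n : ℕ) : Prop :=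
  ∃ A : Subgroup X, A ≤ H ∧ Nat.card A = n ∧ normalizer (A : Set X) ≤ H

variable {X K : Type} [Group X] [Finite X] [Group K] {φ : K →* X}

theorem Amb.mem (hX : Amb X) (Sv : Sieve) {T : Subgroup X} (hT : IsSimpleGroup T) {a b : ℕ} (ha : 1 < a) (hb : 1 < b)
    (h : a * b ∣ Nat.card T) : Nat.card T ∈ oB ∧ Nat.card T ≠ nB := by
  have h1 := card_subgroup_dvd_card T
  refine ⟨Sv.ords T hT (noncomm hT ha hb h) (h1.trans hX.dvd), fun h2 => hX.ne ?_⟩
  exact Nat.dvd_antisymm hX.dvd (h2 ▸ h1)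

theorem card_range (hφ : Function.Injective φ) : Nat.card φ.range = Nat.card K :=
  (Nat.card_congr (MonoidHom.ofInjective hφ).toEquiv).symm

theorem cent_le {x : X} : centralizer ({x} : Set X) ≤ normalizer ((zpowers x : Subgroup X) : Set X) := by
  refine le_trans ?_ (centralizer_le_normalizer _)
  intro g hg
  rw [mem_centralizer_iff]
  rintro _ ⟨j, rfl⟩
  exact ((show Commute g x from mem_centralizer_singleton_iff.1 hg).zpow_right j).eq.symm

theorem inf_bot {N H C : Subgroup X} (h : N ⊓ H = ⊥) (hC : C ≤ H) : N ⊓ C = ⊥ :=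
  le_bot_iff.1 (h ▸ inf_le_inf_left N hC)

theorem soc_of {S : Subgroup K} (hS : Soc S) (haff : ∀ N : Subgroup X, N.Normal → N ⊓ φ.range = ⊥ → N = ⊥) :
    Soc (S.map φ) := by
  intro N nN
  rcases hS (N.comap φ) (nN.comap φ) with h | h
  · left
    refine haff N nN (le_bot_iff.1 ?_)
    rintro _ ⟨h1, k, rfl⟩
    have h2 : k ∈ N.comap φ := h1
    rw [h, mem_bot] at h2
    rw [h2, map_one]
    exact one_mem _
  · exact Or.inr (map_le_iff_le_comap.2 h)

theorem soc_top (hK : IsSimpleGroup K) : Soc (⊤ : Subgroup K) := fun N nN =>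
  (nN.eq_bot_or_eq_top).imp id fun h => h.ge

theorem mem_norm_normal {N : Subgroup X} (nN : N.Normal) (x : X) : x ∈ normalizer (N : Set X) := by
  rw [normalizer_eq_top]
  exact mem_top x

/-- the test at a cyclic Sylow subgroup -/
theorem NA.zp {q k : ℕ} (hq : q.Prime) {H : Subgroup X} (h : NA H (q ^ k)) (hH : ¬ q ^ (k + 1) ∣ Nat.card H) {x : X}
    (hx : x ∈ H) (ho : orderOf x = q ^ k) : normalizer ((zpowers x : Subgroup X) : Set X) ≤ H := by
  obtain ⟨A, h1, h2, h3⟩ := h
  exact norm_le_of hq h1 (zpowers_le.2 hx) h2 (by rw [Nat.card_zpowers, ho]) hH h3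

theorem NA.index {q k : ℕ} (hq : q.Prime) {H : Subgroup X} (h : NA H (q ^ k)) (hH : ¬ q ^ (k + 1) ∣ Nat.card H) :
    H.index % q = 1 := by
  obtain ⟨A, h1, h2, h3⟩ := h
  exact index_mod hq h1 h2 hH h3

/-- the simple case : `T` contains `H` -/
theorem core_simple (hφ : Function.Injective φ) (hK : IsSimpleGroup K)
    (haff : ∀ N : Subgroup X, N.Normal → N ⊓ φ.range = ⊥ → N = ⊥) {p : ℕ} (hp : p.Prime) {u : K} (hu : orderOf u = p)
    (hX : ¬ p ^ (1 + 1) ∣ Nat.card X) (hN : normalizer ((zpowers (φ u) : Subgroup X) : Set X) ≤ φ.range) :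
    ∃ T : Subgroup X, IsSimpleGroup T ∧ φ.range ≤ T ∧ Nat.card T = φ.range.index * Nat.card K := by
  obtain ⟨T, -, h1, h2, h3⟩ := core (soc_of (soc_top hK) haff) hp (zpowers_le.2 (mem_map_of_mem φ (mem_top u)))
    (by rw [Nat.card_zpowers, orderOf_injective φ hφ, hu]) hX hN
  rw [← MonoidHom.range_eq_map] at h2
  rw [inf_eq_right.2 h2, card_range hφ] at h3
  exact ⟨T, h1, h2, h3⟩

/-- the case of index two -/
theorem core_two [Finite K] (hφ : Function.Injective φ) {S : Subgroup K} (hS : Soc S) {s : ℕ} (cS : Nat.card S = s)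
    (cK : Nat.card K = s * 2) (haff : ∀ N : Subgroup X, N.Normal → N ⊓ φ.range = ⊥ → N = ⊥) {p : ℕ} (hp : p.Prime)
    (hp2 : Odd p) {u : K} (hu : orderOf u = p)
    (hX : ¬ p ^ (1 + 1) ∣ Nat.card X) (hN : normalizer ((zpowers (φ u) : Subgroup X) : Set X) ≤ φ.range) :
    ∃ T : Subgroup X, IsSimpleGroup T ∧ (Nat.card T = φ.range.index * s ∨ Nat.card T = φ.range.index * (s * 2)) := by
  have hs : 0 < s := cS ▸ Nat.card_pos
  have hi : S.index = 2 := by
    have h1 := S.card_mul_index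
    rw [cS, cK] at h1
    exact Nat.eq_of_mul_eq_mul_left hs h1
  have huS : u ∈ S := by
    obtain ⟨m, hm⟩ := hp2
    have h1 := pow_mem (sq_mem_of_index_two hi u) (m + 1)
    rwa [← pow_mul, show 2 * (m + 1) = p + 1 by omega, pow_succ, ← hu, pow_orderOf_eq_one, one_mul] at h1
  obtain ⟨T, -, h1, h2, h3⟩ := core (soc_of hS haff) hp (zpowers_le.2 (mem_map_of_mem φ huS))
    (by rw [Nat.card_zpowers, orderOf_injective φ hφ, hu]) hX hN
  refine ⟨T, h1, ?_⟩
  have h4 : s ∣ Nat.card ↥(T ⊓ φ.range) := by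
    rw [← cS, ← card_map_of_injective (K := S) hφ]
    exact card_dvd_of_le (le_inf h2 (map_le_range φ S))
  have h5 : Nat.card ↥(T ⊓ φ.range) ∣ s * 2 := by
    rw [← cK, ← card_range hφ]
    exact card_dvd_of_le inf_le_right
  obtain ⟨c, hc⟩ := h4
  rw [hc] at h5 h3
  rcases (Nat.dvd_prime Nat.prime_two).1 (Nat.dvd_of_mul_dvd_mul_left hs h5) with rfl | rfl
  · exact Or.inl (by rw [h3, mul_one])
  · exact Or.inr h3

theorem num {L : List ℕ} {c p q i : ℕ} (hc : 0 < c)
    (h : (oB.all fun n => n == nB || n % c != 0 || n / c % p != 1 || n / c % q != 1 || n == c || L.contains n) = true)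
    {n : ℕ} (hn : n ∈ oB ∧ n ≠ nB) (e : n = i * c) (hp : i % p = 1) (hq : i % q = 1) : i = 1 ∨ n ∈ L := by
  have h1 := List.all_eq_true.1 h n hn.1
  have h2 : n / c = i := by rw [e, Nat.mul_div_cancel _ hc]
  have h3 : n % c = 0 := by rw [e, Nat.mul_mod_left]
  simp only [h2, h3, hp, hq, Bool.or_eq_true, beq_iff_eq, bne_self_eq_false, Bool.false_eq_true, or_false,
    List.contains_iff_mem, hn.2, false_or] at h1
  rcases h1 with h1 | h1
  · left
    rw [e] at h1
    exact Nat.eq_of_mul_eq_mul_right hc (by rw [h1, one_mul])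
  · exact Or.inr h1

theorem ne_comm_of {u h : K} {p e : ℕ} (hu : orderOf u = p) (he : h * u * h⁻¹ = u ^ e) (hne : e % p ≠ 1 % p) :
    h * u ≠ u * h := by
  intro h1
  rw [h1, mul_inv_cancel_right] at he
  have h2 : u ^ e = u ^ 1 := by rw [pow_one, ← he]
  rw [pow_eq_pow_iff_modEq, hu] at h2
  exact hne h2

theorem order_of_ne {u h : K} {q : ℕ} (hq : q.Prime) (hh : h ^ q = 1) (hne : h * u ≠ u * h) : orderOf h = q := by
  have := Fact.mk hq
  refine orderOf_eq_prime hh ?_
  rintro rfl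
  exact hne (by rw [one_mul, mul_one])

/-- no element of order 15 -/
theorem no15 (hφ : Function.Injective φ) (hK : ∀ s : K, orderOf s ≠ 15) (h5 : NA φ.range (5 ^ 1))
    (hH : ¬ 5 ^ (1 + 1) ∣ Nat.card φ.range) {T : Subgroup X} (h : ∃ s : T, orderOf s = 15) : False := by
  obtain ⟨s, hs⟩ := h
  have hi := h5.index Nat.prime_five hH
  obtain ⟨A, h1, h2, h3⟩ := h5
  obtain ⟨_, ⟨k, rfl⟩, hk⟩ := exists_order Nat.prime_five (h2.trans (pow_one 5)) (not_dvd_of_index Nat.prime_five hH hi)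
    h3 (s := (s : X)) (m := 3) (by norm_num) (by rw [orderOf_coe, hs])
  exact hK k ((orderOf_injective φ hφ k).symm.trans hk)

variable (Af : Aff) (Sv : Sieve) (hX : Amb X) (hφ : Function.Injective φ)
include Af Sv hX hφ

/-- **`L₂(31)`** -/
theorem amb31 (I : I31 K) (h31 : NA φ.range (31 ^ 1)) : φ.range = ⊤ := by
  have hp : Nat.Prime 31 := by norm_num
  obtain ⟨u, h, hu, he⟩ := I.frob
  have cH : Nat.card φ.range = 14880 := (card_range hφ).trans I.card
  have hH : ¬ 31 ^ (1 + 1) ∣ Nat.card φ.range := by rw [cH]; norm_num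
  have hu' : orderOf (φ u) = 31 := (orderOf_injective φ hφ u).trans hu
  have hN := h31.zp hp hH (x := φ u) ⟨u, rfl⟩ (hu'.trans (pow_one 31).symm)
  have hi := h31.index hp hH
  obtain ⟨T, h1, h2, h3⟩ := core_simple hφ I.simple (fun N nN hb => Af.lin X hX.dvd hX.rank N (φ u) (φ h) 31 9 hp hu'
    (by rw [← map_pow, ← he, map_mul, map_mul, map_inv]) (by decide +kernel) (mem_norm_normal nN _) (mem_norm_normal nN _)
    (inf_bot hb (cent_le.trans hN))) hp hu (not_dvd_of_index hp hH hi) hN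
  rw [I.card] at h3
  rcases num (L := [90745943887872000]) (p := 31) (q := 31) (by norm_num) (by decide +kernel)
    (hX.mem Sv h1 (a := 2) (b := 7440) (by norm_num) (by norm_num) (by rw [h3]; exact dvd_mul_left _ _)) h3 hi hi
    with h4 | h4
  · exact index_eq_one.1 h4
  · obtain ⟨s, hs⟩ := I.elt
    refine absurd ?_ (Sv.th T h1 (List.mem_singleton.1 h4) ⟨φ s, h2 ⟨s, rfl⟩⟩)
    rw [orderOf_mk, orderOf_injective φ hφ, hs]

/-- **`PGL₂(17)`** -/
theorem amb17 (I : I17 K) (h17 : NA φ.range (17 ^ 1)) (h9 : NA φ.range (3 ^ 2)) : φ.range = ⊤ := by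
  have hp : Nat.Prime 17 := by norm_num
  have : Finite K := Finite.of_injective φ hφ
  obtain ⟨u, h, hu, he⟩ := I.frob
  obtain ⟨S, cS, hS⟩ := I.soc
  have cH : Nat.card φ.range = 4896 := (card_range hφ).trans I.card
  have hH : ¬ 17 ^ (1 + 1) ∣ Nat.card φ.range := by rw [cH]; norm_num
  have hu' : orderOf (φ u) = 17 := (orderOf_injective φ hφ u).trans hu
  have hN := h17.zp hp hH (x := φ u) ⟨u, rfl⟩ (hu'.trans (pow_one 17).symm)
  have hi := h17.index hp hH
  have hj := h9.index Nat.prime_three (by rw [cH]; norm_num)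
  obtain ⟨T, h1, h3⟩ := core_two hφ hS cS I.card (fun N nN hb => Af.lin X hX.dvd hX.rank N (φ u) (φ h) 17 3 hp hu'
    (by rw [← map_pow, ← he, map_mul, map_mul, map_inv]) (by decide +kernel) (mem_norm_normal nN _) (mem_norm_normal nN _)
    (inf_bot hb (cent_le.trans hN))) hp (by decide) hu (not_dvd_of_index hp hH hi) hN
  have hm := hX.mem Sv h1 (a := 2) (b := 1224) (by norm_num) (by norm_num) (by
    rcases h3 with h3 | h3 <;> rw [h3]
    · exact dvd_mul_left _ _
    · exact Dvd.dvd.mul_left (by norm_num) _)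
  rcases h3 with h3 | h3
  · exact index_eq_one.1 ((num (L := []) (by norm_num) (by decide +kernel) hm h3 hi hj).resolve_right List.not_mem_nil)
  · exact index_eq_one.1 ((num (L := []) (by norm_num) (by decide +kernel) hm h3 hi hj).resolve_right List.not_mem_nil)

omit Sv hX in
/-- the Frobenius group `11 : 5` -/
theorem aff55 {u h : K} (hu : orderOf u = 11) (hh : h ^ 5 = 1) (he : h * u * h⁻¹ = u ^ 4)
    (hN : normalizer ((zpowers (φ u) : Subgroup X) : Set X) ≤ φ.range) (h5 : NA φ.range (5 ^ 1))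
    (hH : ¬ 5 ^ (1 + 1) ∣ Nat.card φ.range) (N : Subgroup X) (nN : N.Normal) (hb : N ⊓ φ.range = ⊥) : N = ⊥ := by
  have hne := ne_comm_of hu he (by norm_num)
  have ho := order_of_ne Nat.prime_five hh hne
  have hN5 := h5.zp Nat.prime_five hH (x := φ h) ⟨h, rfl⟩ (by rw [orderOf_injective φ hφ, ho, pow_one])
  exact Af.frob X N (φ u) (φ h) 11 5 4 (by norm_num) Nat.prime_five ((orderOf_injective φ hφ u).trans hu)
    (by rw [← map_pow, hh, map_one]) (by rw [← map_pow, ← he, map_mul, map_mul, map_inv])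
    (fun h1 => hne (hφ (by rw [map_mul, map_mul, h1]))) (mem_norm_normal nN _) (mem_norm_normal nN _)
    (inf_bot hb (cent_le.trans hN)) (inf_bot hb (cent_le.trans hN5))

/-- **`PGL₂(11)`** -/
theorem amb11 (I : I11 K) (h11 : NA φ.range (11 ^ 1)) (h5 : NA φ.range (5 ^ 1)) : φ.range = ⊤ := by
  have hp : Nat.Prime 11 := by norm_num
  have : Finite K := Finite.of_injective φ hφ
  obtain ⟨u, h, hu, hh, he⟩ := I.frob
  obtain ⟨S, cS, hS⟩ := I.soc
  have cH : Nat.card φ.range = 1320 := (card_range hφ).trans I.card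
  have hH : ¬ 11 ^ (1 + 1) ∣ Nat.card φ.range := by rw [cH]; norm_num
  have hH5 : ¬ 5 ^ (1 + 1) ∣ Nat.card φ.range := by rw [cH]; norm_num
  have hu' : orderOf (φ u) = 11 := (orderOf_injective φ hφ u).trans hu
  have hN := h11.zp hp hH (x := φ u) ⟨u, rfl⟩ (hu'.trans (pow_one 11).symm)
  have hi := h11.index hp hH
  have hj := h5.index Nat.prime_five hH5
  obtain ⟨T, h1, h3⟩ := core_two hφ hS cS I.card (aff55 Af hφ hu hh he hN h5 hH5) hp (by decide) hu
    (not_dvd_of_index hp hH hi) hN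
  have hm := hX.mem Sv h1 (a := 2) (b := 330) (by norm_num) (by norm_num) (by
    rcases h3 with h3 | h3 <;> rw [h3]
    · exact dvd_mul_left _ _
    · exact Dvd.dvd.mul_left (by norm_num) _)
  rcases h3 with h3 | h3
  · rcases num (L := [10200960, 13685760]) (by norm_num) (by decide +kernel) hm h3 hi hj with h4 | h4
    · exact index_eq_one.1 h4
    · simp only [List.mem_cons, List.not_mem_nil, or_false] at h4
      rcases h4 with h4 | h4
      · exact (no15 hφ I.no15 h5 hH5 (Sv.m23 T h1 h4)).elim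
      · exact (no15 hφ I.no15 h5 hH5 (Sv.u52 T h1 h4)).elim
  · exact index_eq_one.1 ((num (L := []) (by norm_num) (by decide +kernel) hm h3 hi hj).resolve_right List.not_mem_nil)

/-- **`M₁₁`** -/
theorem ambM (I : IM K) (eK : Nonempty (K ≃* TM)) (h11 : NA φ.range (11 ^ 1)) (h5 : NA φ.range (5 ^ 1)) : φ.range = ⊤ := by
  have hp : Nat.Prime 11 := by norm_num
  obtain ⟨u, h, hu, hh, he⟩ := I.frob
  have cH : Nat.card φ.range = 7920 := (card_range hφ).trans I.card
  have hH : ¬ 11 ^ (1 + 1) ∣ Nat.card φ.range := by rw [cH]; norm_num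
  have hH5 : ¬ 5 ^ (1 + 1) ∣ Nat.card φ.range := by rw [cH]; norm_num
  have hu' : orderOf (φ u) = 11 := (orderOf_injective φ hφ u).trans hu
  have hN := h11.zp hp hH (x := φ u) ⟨u, rfl⟩ (hu'.trans (pow_one 11).symm)
  have hi := h11.index hp hH
  have hj := h5.index Nat.prime_five hH5
  obtain ⟨T, h1, h2, h3⟩ := core_simple hφ I.simple (aff55 Af hφ hu hh he hN h5 hH5) hp hu
    (not_dvd_of_index hp hH hi) hN
  rw [I.card] at h3
  rcases num (L := [443520, 9196830720]) (by norm_num) (by decide +kernel)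
    (hX.mem Sv h1 (a := 2) (b := 3960) (by norm_num) (by norm_num) (by rw [h3]; exact dvd_mul_left _ _)) h3 hi hj
    with h4 | h4
  · exact index_eq_one.1 h4
  · simp only [List.mem_cons, List.not_mem_nil, or_false] at h4
    rcases h4 with h4 | h4
    · obtain ⟨e⟩ := eK
      exact ((Sv.m22 T h1 h4 (φ.range.subgroupOf T)).false
        (((subgroupOfEquivOfLe h2).trans (MonoidHom.ofInjective hφ).symm).trans e)).elim
    · exact (no15 hφ I.no15 h5 hH5 (Sv.u62 T h1 h4)).elim

end Cfsg.Agent.BX.Max
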