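import Cfsg.Agent.BX.Max.Iface
set_option linter.all false

/-!
# The abstract part of the maximality criterion (helper1, for S5527)

Everything takes place in a finite group `X` (a proper overgroup of the small group `H`).

* `exists_cj` : Sylow's theorem for subgroups of a subgroup;
* `index_mod` : a Sylow subgroup of `H` with normaliser in `H` gives `|X : H| ≡ 1`;
* `simple_of_char` : a characteristically simple group with a Sylow subgroup of prime order is simple;
* `core` : `X = T H` with `T` simple and normal;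
* `card_core` : `|T| = |X : H| |T ∩ H|`.
-/

set_option autoImplicit false

namespace Cfsg.Agent.BX.Max

open Subgroup

variable {X : Type} [Group X]

/-- the conjugate `g A g⁻¹` -/
abbrev cjg (g : X) (A : Subgroup X) : Subgroup X := A.map (MulAut.conj g).toMonoidHom

theorem mem_cjg {g x : X} {A : Subgroup X} : x ∈ cjg g A ↔ g⁻¹ * x * g ∈ A := by
  constructor
  · rintro ⟨a, ha, rfl⟩
    have : g⁻¹ * ((MulAut.conj g).toMonoidHom a) * g = a := by
      show g⁻¹ * (g * a * g⁻¹) * g = a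
      group
    rwa [this]
  · intro h
    refine ⟨_, h, ?_⟩
    show g * (g⁻¹ * x * g) * g⁻¹ = x
    group

theorem card_cjg (g : X) (A : Subgroup X) : Nat.card (cjg g A) = Nat.card A :=
  card_map_of_injective (MulAut.conj g).injective

theorem mem_norm_of_cjg {g : X} {A : Subgroup X} (h : cjg g A = A) : g ∈ normalizer (A : Set X) := by
  rw [mem_normalizer_iff]
  intro x
  conv_rhs => rw [← h, mem_cjg]
  have : g⁻¹ * (g * x * g⁻¹) * g = x := by group
  rw [this]

variable [Finite X]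

/-- Sylow's theorem inside `T` -/
theorem exists_cj {q k : ℕ} (hq : q.Prime) {T A B : Subgroup X} (hA : A ≤ T) (hB : B ≤ T) (cA : Nat.card A = q ^ k)
    (cB : Nat.card B = q ^ k) (hT : ¬ q ^ (k + 1) ∣ Nat.card T) : ∃ t ∈ T, cjg t A = B := by
  have := Fact.mk hq
  have key : ∀ C : Subgroup X, C ≤ T → Nat.card C = q ^ k → ∃ S : Sylow q T, (S : Subgroup T) = C.subgroupOf T := by
    intro C hC cC
    have h1 : Nat.card (C.subgroupOf T) = q ^ k := by
      rw [Nat.card_congr (subgroupOfEquivOfLe hC).toEquiv, cC]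
    have h2 : ¬ q ∣ (C.subgroupOf T).index := by
      intro h3
      apply hT
      rw [← (C.subgroupOf T).card_mul_index, h1, pow_succ]
      exact Nat.mul_dvd_mul_left _ h3
    exact ⟨(IsPGroup.of_card h1).toSylow h2, rfl⟩
  obtain ⟨SA, hSA⟩ := key A hA cA
  obtain ⟨SB, hSB⟩ := key B hB cB
  obtain ⟨t, ht⟩ := MulAction.exists_smul_eq T SA SB
  refine ⟨t, t.2, ?_⟩
  symm
  refine eq_of_le_of_card_ge ?_ (by rw [card_cjg, cA, cB])
  intro b hb
  have h1 : (⟨b, hB hb⟩ : T) ∈ ((t • SA : Sylow q T) : Subgroup T) := by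
    rw [ht, hSB]
    exact hb
  rw [Sylow.coe_subgroup_smul, Subgroup.mem_pointwise_smul_iff_inv_smul_mem, hSA, MulAut.smul_def,
    MulAut.conj_inv_apply] at h1
  exact mem_cjg.2 h1

/-- the normaliser test does not depend on the Sylow subgroup -/
theorem norm_le_of {q k : ℕ} (hq : q.Prime) {H A B : Subgroup X} (hA : A ≤ H) (hB : B ≤ H) (cA : Nat.card A = q ^ k)
    (cB : Nat.card B = q ^ k) (hH : ¬ q ^ (k + 1) ∣ Nat.card H) (hN : normalizer (A : Set X) ≤ H) :
    normalizer (B : Set X) ≤ H := by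
  obtain ⟨t, ht, rfl⟩ := exists_cj hq hA hB cA cB hH
  intro g hg
  have h1 : t⁻¹ * g * t ∈ normalizer (A : Set X) := by
    rw [mem_normalizer_iff] at hg ⊢
    intro a
    have h2 := hg (t * a * t⁻¹)
    simp only [SetLike.mem_coe, mem_cjg] at h2
    have e1 : t⁻¹ * (t * a * t⁻¹) * t = a := by group
    have e2 : t⁻¹ * (g * (t * a * t⁻¹) * g⁻¹) * t = t⁻¹ * g * t * a * (t⁻¹ * g * t)⁻¹ := by group
    rwa [e1, e2] at h2
  have h2 := mul_mem (mul_mem ht (hN h1)) (inv_mem ht)
  have e : t * (t⁻¹ * g * t) * t⁻¹ = g := by group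
  rwa [e] at h2

/-- **one fixed point** -/
theorem index_mod {q k : ℕ} (hq : q.Prime) {H A : Subgroup X} (hA : A ≤ H) (cA : Nat.card A = q ^ k)
    (hH : ¬ q ^ (k + 1) ∣ Nat.card H) (hN : normalizer (A : Set X) ≤ H) : H.index % q = 1 := by
  have := Fact.mk hq
  have h1 := (IsPGroup.of_card cA).card_modEq_card_fixedPoints (X ⧸ H)
  have h2 : Nat.card (MulAction.fixedPoints A (X ⧸ H)) = 1 := by
    rw [Nat.card_eq_one_iff_exists]
    refine ⟨⟨((1 : X) : X ⧸ H), ?_⟩, ?_⟩
    · intro a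
      show (((a : X) * 1 : X) : X ⧸ H) = ((1 : X) : X ⧸ H)
      rw [QuotientGroup.eq]
      simpa using hA a.2
    · rintro ⟨y, hy⟩
      induction y using QuotientGroup.induction_on with
      | H x =>
        apply Subtype.ext
        show (x : X ⧸ H) = ((1 : X) : X ⧸ H)
        have h3 : cjg x⁻¹ A ≤ H := by
          intro b hb
          rw [mem_cjg, inv_inv] at hb
          have h4 : (((x * b * x⁻¹) * x : X) : X ⧸ H) = (x : X ⧸ H) := hy ⟨_, hb⟩
          rw [QuotientGroup.eq] at h4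
          have e : (x * b * x⁻¹ * x)⁻¹ * x = b⁻¹ := by group
          rw [e] at h4
          exact (inv_mem_iff).1 h4
        obtain ⟨t, ht, h4⟩ := exists_cj hq h3 hA ((card_cjg _ _).trans cA) cA hH
        have h5 : cjg (t * x⁻¹) A = A := by
          ext z
          conv_rhs => rw [← h4]
          simp only [mem_cjg]
          have e : (t * x⁻¹)⁻¹ * z * (t * x⁻¹) = x⁻¹⁻¹ * (t⁻¹ * z * t) * x⁻¹ := by group
          rw [e]
        have h6 := hN (mem_norm_of_cjg h5)
        rw [QuotientGroup.eq, mul_one]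
        exact (mul_mem_cancel_left ht).1 h6
  rw [h2] at h1
  have h3 : H.index % q = 1 % q := h1
  rw [h3, Nat.mod_eq_of_lt hq.one_lt]

theorem not_dvd_of_index {q k : ℕ} (hq : q.Prime) {H : Subgroup X} (hH : ¬ q ^ (k + 1) ∣ Nat.card H)
    (hi : H.index % q = 1) : ¬ q ^ (k + 1) ∣ Nat.card X := by
  intro h
  rw [← H.card_mul_index] at h
  refine hH (Nat.Coprime.dvd_of_dvd_mul_right (Nat.Coprime.pow_left _ ?_) h)
  rw [hq.coprime_iff_not_dvd, Nat.dvd_iff_mod_eq_zero, hi]
  exact one_ne_zero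

/-- an element whose order is divisible by `q` is conjugate into `H` -/
theorem exists_order {q : ℕ} (hq : q.Prime) {H A : Subgroup X} (cA : Nat.card A = q)
    (hX : ¬ q ^ (1 + 1) ∣ Nat.card X) (hN : normalizer (A : Set X) ≤ H) {s : X} {m : ℕ} (hm : m ≠ 0)
    (hs : orderOf s = q * m) : ∃ s' ∈ H, orderOf s' = q * m := by
  have h1 : Nat.card (zpowers (s ^ m)) = q := by
    rw [Nat.card_zpowers, orderOf_pow' _ hm, hs, Nat.gcd_eq_right (dvd_mul_left _ _),
      Nat.mul_div_cancel _ (Nat.pos_of_ne_zero hm)]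
  obtain ⟨t, -, ht⟩ := exists_cj (k := 1) (T := ⊤) hq (le_top (a := zpowers (s ^ m))) (le_top (a := A))
    (by rw [h1, pow_one]) (by rw [cA, pow_one]) (by rwa [card_top])
  refine ⟨t * s * t⁻¹, hN ?_, by rw [← hs]; exact MulEquiv.orderOf_eq (MulAut.conj t) s⟩
  rw [← ht, mem_normalizer_iff]
  intro a
  simp only [SetLike.mem_coe, mem_cjg]
  have e : t⁻¹ * (t * s * t⁻¹ * a * (t * s * t⁻¹)⁻¹) * t = s * (t⁻¹ * a * t) * s⁻¹ := by group
  rw [e]
  have h2 : s ∈ normalizer ((zpowers (s ^ m) : Subgroup X) : Set X) := by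
    apply centralizer_le_normalizer
    rw [mem_centralizer_iff]
    rintro _ ⟨j, rfl⟩
    exact (((Commute.refl s).pow_left m).zpow_left j).eq
  exact mem_normalizer_iff.1 h2 _

/-- a characteristically simple group with a Sylow subgroup of prime order is simple -/
theorem simple_of_char {N : Type} [Group N] [Finite N] (hc : ∀ L : Subgroup N, L.Characteristic → L = ⊥ ∨ L = ⊤)
    {p : ℕ} (hp : p.Prime) (h1 : p ∣ Nat.card N) (h2 : ¬ p ^ (1 + 1) ∣ Nat.card N) : IsSimpleGroup N := by
  have := Fact.mk hp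
  obtain ⟨x, hx⟩ := exists_prime_orderOf_dvd_card' p h1
  have hx1 : x ≠ 1 := by
    rintro rfl
    rw [orderOf_one] at hx
    exact hp.one_lt.ne hx
  have : Nontrivial N := ⟨x, 1, hx1⟩
  -- the elements of order `p` generate
  have hD : closure {g : N | orderOf g = p} = ⊤ := by
    refine (hc _ ?_).resolve_left ?_
    · rw [characteristic_iff_map_le]
      intro φ
      rw [MonoidHom.map_closure, closure_le]
      rintro _ ⟨g, hg, rfl⟩
      exact subset_closure ((MulEquiv.orderOf_eq φ g).trans hg)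
    · intro h
      have h3 : x ∈ closure {g : N | orderOf g = p} := subset_closure hx
      rw [h] at h3
      exact hx1 h3
  -- the largest normal `p'`-subgroup
  obtain ⟨L₀, ⟨n0, p0⟩, hmax⟩ := Set.Finite.exists_maximal (α := Subgroup N) (Set.toFinite
    {L : Subgroup N | L.Normal ∧ ¬ p ∣ Nat.card L}) ⟨⊥, inferInstance, by rw [card_bot]; exact hp.not_dvd_one⟩
  have hle : ∀ L : Subgroup N, L.Normal → ¬ p ∣ Nat.card L → L ≤ L₀ := by
    intro L nL pL
    have h3 : ¬ p ∣ Nat.card ↥(L ⊔ L₀) := by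
      have h4 : Nat.card L₀ * L₀.relIndex (L ⊔ L₀) = Nat.card ↥(L ⊔ L₀) := by
        rw [← Nat.card_congr (subgroupOfEquivOfLe (le_sup_right : L₀ ≤ L ⊔ L₀)).toEquiv]
        exact card_mul_index _
      rw [← h4, relIndex_sup_right, hp.dvd_mul, not_or]
      exact ⟨p0, fun h => pL (h.trans (index_dvd_card _))⟩
    exact le_sup_left.trans (hmax ⟨inferInstance, h3⟩ le_sup_right)
  have h0 : L₀ = ⊥ := by
    refine (hc _ ?_).resolve_right ?_
    · rw [characteristic_iff_map_le]
      intro φ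
      refine hle _ (n0.map _ φ.surjective) ?_
      rwa [card_map_of_injective φ.injective]
    · rintro rfl
      exact p0 (by rwa [card_top])
  refine ⟨fun L nL => ?_⟩
  by_cases hL : p ∣ Nat.card L
  · right
    obtain ⟨y, hy⟩ := exists_prime_orderOf_dvd_card' p hL
    rw [eq_top_iff, ← hD, closure_le]
    intro g hg
    obtain ⟨t, -, ht⟩ := exists_cj (k := 1) (T := ⊤) hp (le_top (a := zpowers (y : N))) (le_top (a := zpowers g))
      (by rw [Nat.card_zpowers, orderOf_coe, hy, pow_one]) (by rw [Nat.card_zpowers, hg, pow_one]) (by rwa [card_top])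
    have h3 : g ∈ cjg t (zpowers (y : N)) := ht ▸ mem_zpowers g
    have h4 := nL.conj_mem _ (zpowers_le.2 y.2 (mem_cjg.1 h3)) t
    have e : t * (t⁻¹ * g * t) * t⁻¹ = g := by group
    rwa [e] at h4
  · left
    exact le_bot_iff.1 (h0 ▸ hle L nL hL)

/-- a minimal normal subgroup -/
theorem exists_min (h : Nontrivial X) : ∃ N : Subgroup X, N.Normal ∧ N ≠ ⊥ ∧
    ∀ L : Subgroup N, L.Characteristic → L = ⊥ ∨ L = ⊤ := by
  obtain ⟨N, ⟨nN, hN⟩, hmin⟩ := Set.Finite.exists_minimal (α := Subgroup X) (Set.toFinite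
    {L : Subgroup X | L.Normal ∧ L ≠ ⊥}) ⟨⊤, inferInstance, top_ne_bot⟩
  refine ⟨N, nN, hN, fun L hL => ?_⟩
  by_cases h1 : L.map N.subtype = ⊥
  · exact Or.inl ((map_eq_bot_iff_of_injective _ N.subtype_injective).1 h1)
  · right
    have h2 : N ≤ L.map N.subtype := hmin ⟨inferInstance, h1⟩ (map_subtype_le L)
    rw [eq_top_iff]
    intro x _
    obtain ⟨y, hy, e⟩ := h2 x.2
    exact (Subtype.ext e : y = x) ▸ hy

/-- the Frattini argument -/
theorem frattini {p : ℕ} (hp : p.Prime) {T P : Subgroup X} (nT : T.Normal) (hPT : P ≤ T) (cP : Nat.card P = p)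
    (hX : ¬ p ^ (1 + 1) ∣ Nat.card X) : T ⊔ normalizer (P : Set X) = ⊤ := by
  rw [eq_top_iff]
  intro x _
  have h1 : cjg x P ≤ T := by
    intro b hb
    have h2 := nT.conj_mem _ (hPT (mem_cjg.1 hb)) x
    have e : x * (x⁻¹ * b * x) * x⁻¹ = b := by group
    rwa [e] at h2
  obtain ⟨t, ht, h2⟩ := exists_cj (k := 1) hp h1 hPT (by rw [card_cjg, cP, pow_one]) (by rw [cP, pow_one])
    (fun h => hX (h.trans (card_subgroup_dvd_card T)))
  have h3 : cjg (t * x) P = P := by
    ext z
    conv_rhs => rw [← h2]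
    simp only [mem_cjg]
    have e : (t * x)⁻¹ * z * (t * x) = x⁻¹ * (t⁻¹ * z * t) * x := by group
    rw [e]
  have h4 := mul_mem (mem_sup_left (inv_mem ht)) (mem_sup_right (S := T) (mem_norm_of_cjg h3))
  rwa [inv_mul_cancel_left] at h4

theorem card_core {T H : Subgroup X} (nT : T.Normal) (h : T ⊔ H = ⊤) :
    Nat.card T = H.index * Nat.card ↥(T ⊓ H) := by
  have h1 : T.index = T.relIndex H := by
    rw [← relIndex_sup_left, h, relIndex_top_right]
  have h2 : Nat.card ↥(T ⊓ H) * T.relIndex H = Nat.card H := by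
    rw [← inf_relIndex_right, ← Nat.card_congr (subgroupOfEquivOfLe (inf_le_right : T ⊓ H ≤ H)).toEquiv]
    exact card_mul_index _
  have h3 := T.card_mul_index
  have h4 := H.card_mul_index
  have h5 : 0 < T.relIndex H := Nat.pos_of_ne_zero FiniteIndex.index_ne_zero
  apply Nat.eq_of_mul_eq_mul_right h5
  rw [mul_assoc, h2, mul_comm, ← h1, mul_comm, h3, ← h4, mul_comm]

/-- **the reduction to a simple normal subgroup** -/
theorem core {H S P : Subgroup X} (hsoc : Soc S) {p : ℕ} (hp : p.Prime) (hPS : P ≤ S) (cP : Nat.card P = p)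
    (hX : ¬ p ^ (1 + 1) ∣ Nat.card X) (hN : normalizer (P : Set X) ≤ H) :
    ∃ T : Subgroup X, T.Normal ∧ IsSimpleGroup T ∧ S ≤ T ∧ Nat.card T = H.index * Nat.card ↥(T ⊓ H) := by
  have hnt : Nontrivial X := by
    rw [← Finite.one_lt_card_iff_nontrivial]
    exact lt_of_lt_of_le (cP ▸ hp.one_lt) (card_le_card_group P)
  obtain ⟨T, nT, hT, hc⟩ := exists_min hnt
  have hST : S ≤ T := (hsoc T nT).resolve_left hT
  refine ⟨T, nT, simple_of_char hc hp (cP ▸ card_dvd_of_le (hPS.trans hST))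
    (fun h => hX (h.trans (card_subgroup_dvd_card T))), hST, card_core nT ?_⟩
  rw [eq_top_iff, ← frattini hp nT (hPS.trans hST) cP hX]
  exact sup_le_sup_left hN T

/-- a simple group with a subgroup of composite order is not commutative -/
theorem noncomm {T : Type} [Group T] [Finite T] (hT : IsSimpleGroup T) {a b : ℕ} (ha : 1 < a) (hb : 1 < b)
    (h : a * b ∣ Nat.card T) : ¬ ∀ x y : T, x * y = y * x := by
  intro hc
  have : IsMulCommutative T := ⟨⟨hc⟩⟩
  letI : CommGroup T := { (inferInstance : Group T) with mul_comm := hc }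
  have hp : (Nat.card T).Prime := IsSimpleGroup.prime_card
  rcases (Nat.dvd_prime hp).1 h with h1 | h1
  · nlinarith
  · rw [← h1] at hp
    exact Nat.not_prime_mul ha.ne' hb.ne' hp

end Cfsg.Agent.BX.Max
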