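import Cfsg.Agent.BX.Max.Amb
import Cfsg.Agent.H904.SylOne
set_option linter.all false

/-!
# The maximality criteria (helper1, for S5527)

* `gen47` : the proper subgroups with order divisible by 47;
* `max31`, `max11`, `maxM`, `max17` : four criteria (the fifth one is `BX.L33.max33`);
* `HasMax G K`, `HasMax.map` : the statement and its invariance under isomorphisms.
-/

set_option autoImplicit false
set_option maxRecDepth 100000

namespace Cfsg.Agent.BX.Max

open Subgroup

variable {G : Type} [Group G]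

theorem Loc.fin (L : Loc G) : Finite G := Nat.finite_of_card_ne_zero (by rw [L.card]; decide)

theorem rank_sub (h : PRankLE 2 14 G) (X : Subgroup G) : PRankLE 2 14 X := by
  intro A hA hA2
  rw [← card_map_of_injective (K := A) X.subtype_injective]
  refine h _ inferInstance ?_
  rintro _ ⟨a, ha, rfl⟩
  rw [← map_pow, hA2 a ha, map_one]

theorem Loc.amb (L : Loc G) {X : Subgroup G} (hX : X ≠ ⊤) : Amb X := by
  have := L.fin
  refine ⟨L.card ▸ card_subgroup_dvd_card X, fun h => hX ?_, rank_sub L.rank X⟩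
  exact eq_top_of_card_eq X (h.trans L.card.symm)

/-- the normaliser of a self-centralising Sylow subgroup of prime order -/
theorem card_norm_of [Finite G] {p m : ℕ} (hp : p.Prime) (hc : Nat.card G = nB) (h2 : ¬ p ^ 2 ∣ nB) {x : G}
    (hx : orderOf x = p) (hC : Nat.card (centralizer ({x} : Set G)) = p)
    (hm : ∀ e < p, (p - 1) % e = 0 → nB / (p * e) % p = 1 % p → e = m) :
    Nat.card (normalizer ((zpowers x : Subgroup G) : Set G)) = p * m := by
  have := Fact.mk hp
  obtain ⟨K, e, s, h1, h3, h4, h5, h6⟩ := H904.SylOne.main (hc ▸ h2) hx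
  have hK : K = 1 := Nat.eq_of_mul_eq_mul_left hp.pos (by rw [← h3, hC, mul_one])
  subst hK
  have hp1 : 0 < p - 1 := Nat.sub_pos_of_lt hp.one_lt
  have he : 0 < e := Nat.pos_of_dvd_of_pos h1 hp1
  rw [(h6 _ (by rw [Nat.card_zpowers, hx])).2, mul_one,
    hm e (lt_of_le_of_lt (Nat.le_of_dvd hp1 h1) (Nat.sub_lt hp.pos one_pos)) (Nat.mod_eq_zero_of_dvd h1) ?_]
  rw [← hc, h4, mul_one, Nat.mul_div_cancel_left _ (Nat.mul_pos hp.pos he)]
  exact h5

theorem cent_eq [Finite G] {x : G} (hC : Nat.card (centralizer ({x} : Set G)) = orderOf x) :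
    centralizer ({x} : Set G) = zpowers x :=
  (eq_of_le_of_card_ge (zpowers_le.2 (mem_centralizer_singleton_iff.2 rfl)) (by rw [hC, Nat.card_zpowers])).symm

/-- **the proper subgroups with order divisible by 47** -/
theorem gen47 (Af : Aff) (F : Facts G) : Gen47 G := by
  have := F.loc.fin
  have hp : Nat.Prime 47 := by norm_num
  have := Fact.mk hp
  intro X hX h47
  have hA := F.loc.amb hX
  obtain ⟨x, hx⟩ := exists_prime_orderOf_dvd_card' 47 h47
  have hx' : orderOf (x : G) = 47 := (orderOf_coe x).trans hx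
  have hC := F.loc.c47 x hx'
  have hN : Nat.card (normalizer ((zpowers (x : G) : Subgroup G) : Set G)) = 47 * 23 :=
    card_norm_of hp F.loc.card (by decide +kernel) hx' hC (by decide +kernel)
  have cP : Nat.card (zpowers x) = 47 := by rw [Nat.card_zpowers, hx]
  have h2 : ¬ 47 ^ (1 + 1) ∣ Nat.card X := fun h => absurd (h.trans hA.dvd) (by decide +kernel)
  have hCX : centralizer ({x} : Set X) ≤ zpowers x := by
    intro g hg
    have h3 : (g : G) ∈ centralizer ({(x : G)} : Set G) :=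
      mem_centralizer_singleton_iff.2 (congrArg Subtype.val (mem_centralizer_singleton_iff.1 hg))
    rw [cent_eq (hC.trans hx'.symm)] at h3
    obtain ⟨k, hk⟩ := h3
    exact ⟨k, Subtype.ext hk⟩
  have hsoc : Soc (zpowers x) := by
    intro N nN
    by_cases h3 : x ∈ N
    · exact Or.inr (zpowers_le.2 h3)
    · left
      refine Af.a47 X hA.dvd hA.rank N x hx (mem_norm_normal nN x) ?_
      haveI : Fact (Nat.card (zpowers x)).Prime := ⟨cP ▸ hp⟩
      rcases ((zpowers x ⊓ N).subgroupOf (zpowers x)).eq_bot_or_eq_top_of_prime_card with h4 | h4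
      · rw [eq_bot_iff]
        intro g hg
        have h5 : (⟨g, hCX hg.2⟩ : zpowers x) ∈ (zpowers x ⊓ N).subgroupOf (zpowers x) := ⟨hCX hg.2, hg.1⟩
        rw [h4, mem_bot] at h5
        exact congrArg Subtype.val h5
      · have h5 : (⟨x, mem_zpowers x⟩ : zpowers x) ∈ (zpowers x ⊓ N).subgroupOf (zpowers x) := h4 ▸ mem_top _
        exact absurd h5.2 h3
  obtain ⟨T, -, k1, k2, k3⟩ := core (H := normalizer ((zpowers x : Subgroup X) : Set X)) hsoc hp le_rfl cP h2 le_rfl
  set H := normalizer ((zpowers x : Subgroup X) : Set X) with hH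
  have k4 : Nat.card H ∣ 47 * 23 := by
    rw [← hN, ← card_map_of_injective (K := H) X.subtype_injective]
    refine card_dvd_of_le ?_
    rintro _ ⟨g, hg, rfl⟩
    have e : (zpowers (x : G) : Subgroup G) = (zpowers x).map X.subtype := (MonoidHom.map_zpowers X.subtype x).symm
    rw [e]
    exact le_normalizer_map X.subtype ⟨g, hg, rfl⟩
  obtain ⟨c, hc⟩ : 47 ∣ Nat.card ↥(T ⊓ H) := cP ▸ card_dvd_of_le (le_inf k2 le_normalizer)
  have k5 := H.card_mul_index
  by_cases hcomm : ∀ a b : T, a * b = b * a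
  · letI : CommGroup T := { (inferInstance : Group T) with mul_comm := hcomm }
    have hq : (Nat.card T).Prime := IsSimpleGroup.prime_card
    have k6 : 47 = Nat.card T := (Nat.prime_dvd_prime_iff_eq hp hq).1 (cP ▸ card_dvd_of_le k2)
    have k7 : H.index = 1 := by
      rw [← k6, hc, mul_left_comm] at k3
      exact Nat.eq_one_of_mul_eq_one_right (Nat.eq_of_mul_eq_mul_left hp.pos (k3.symm.trans (mul_one 47).symm))
    rw [← k5, k7, mul_one]
    exact k4.trans (by norm_num)
  · have k6 := F.sieve.ords T k1 hcomm ((card_subgroup_dvd_card T).trans hA.dvd)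
    have k7 : Nat.card T ≠ nB := fun h => hA.ne (Nat.dvd_antisymm hA.dvd (h ▸ card_subgroup_dvd_card T))
    have k8 : 47 ∣ Nat.card T := cP ▸ card_dvd_of_le k2
    have k9 : Nat.card T = 51888 := by
      have h3 : (oB.all fun n => n == nB || n % 47 != 0 || n == 51888) = true := by decide +kernel
      have h4 := List.all_eq_true.1 h3 _ k6
      simpa only [Nat.mod_eq_zero_of_dvd k8, Bool.or_eq_true, beq_iff_eq, bne_self_eq_false, Bool.false_eq_true,
        or_false, k7, false_or] using h4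
    have k10 : H.index * 47 ∣ 51888 := by
      rw [← k9, k3, hc, ← mul_assoc]
      exact dvd_mul_right _ _
    rw [← k5]
    refine (Nat.mul_dvd_mul_right k4 _).trans ?_
    rw [show 47 * 23 * H.index = H.index * 47 * 23 by ring]
    exact (Nat.mul_dvd_mul_right k10 23).trans (by norm_num)

section transfer

variable {K : Type} [Group K] {H X : Subgroup G}

/-- the embedding in the ambient group -/
def emb (e : H ≃* K) (h : H ≤ X) : K →* X := (inclusion h).comp e.symm.toMonoidHom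

theorem emb_inj (e : H ≃* K) (h : H ≤ X) : Function.Injective (emb e h) :=
  (inclusion_injective h).comp e.symm.injective

theorem emb_range (e : H ≃* K) (h : H ≤ X) : (emb e h).range = H.subgroupOf X := by
  ext x
  constructor
  · rintro ⟨k, rfl⟩
    exact (e.symm k).2
  · intro hx
    exact ⟨e ⟨x, hx⟩, Subtype.ext (by simp [emb])⟩

theorem NT.na {n m : ℕ} (t : NT H n) (hm : n = m) (e : H ≃* K) (h : H ≤ X) (hX : X ≠ ⊤) : NA (emb e h).range m := by
  obtain ⟨A, h1, h2, h3⟩ := t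
  rw [emb_range]
  refine ⟨A.subgroupOf X, fun x hx => h1 hx, ?_, fun g hg => h3 X h hX ⟨g.2, ?_⟩⟩
  · rw [Nat.card_congr (subgroupOfEquivOfLe (h1.trans h)).toEquiv, h2, hm]
  · have h4 := le_normalizer_map X.subtype ⟨g, hg, rfl⟩
    rwa [subgroupOf_map_subtype, inf_eq_left.2 (h1.trans h)] at h4

theorem coatom_of (L : Loc G) (e : H ≃* K) (hK : Nat.card K ≠ nB)
    (h : ∀ (X : Subgroup G) (h : H ≤ X), X ≠ ⊤ → (emb e h).range = ⊤) : IsCoatom H := by
  refine ⟨fun h1 => hK ?_, fun X hX => ?_⟩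
  · rw [← Nat.card_congr e.toEquiv, h1, card_top, L.card]
  · by_contra h1
    have h2 := h X hX.le h1
    rw [emb_range, subgroupOf_eq_top] at h2
    exact hX.not_ge h2

end transfer

/-- the test at 31 is automatic -/
theorem nt31 (L : Loc G) {K : Type} [Group K] (I : I31 K) {H : Subgroup G} (e : H ≃* K) : NT H 31 := by
  have := L.fin
  have hp : Nat.Prime 31 := by norm_num
  obtain ⟨u, h, hu, he⟩ := I.frob
  let ψ : K →* G := H.subtype.comp e.symm.toMonoidHom
  have hψ : Function.Injective ψ := H.subtype_injective.comp e.symm.injective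
  have mψ : ∀ k, ψ k ∈ H := fun k => (e.symm k).2
  have hu' : orderOf (ψ u) = 31 := (orderOf_injective ψ hψ u).trans hu
  have he' : ψ h * ψ u * (ψ h)⁻¹ = ψ u ^ 9 := by rw [← map_pow, ← he, map_mul, map_mul, map_inv]
  have hC := L.c31 _ hu'
  have hN : Nat.card (normalizer ((zpowers (ψ u) : Subgroup G) : Set G)) = 31 * 15 :=
    card_norm_of hp L.card (by decide +kernel) hu' hC (by decide +kernel)
  refine ⟨zpowers (ψ u), zpowers_le.2 (mψ u), by rw [Nat.card_zpowers, hu'], fun X _ _ => inf_le_right.trans ?_⟩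
  have hh : ψ h ∈ normalizer ((zpowers (ψ u) : Subgroup G) : Set G) := by
    apply mem_normalizer_fintype
    rintro _ ⟨k, rfl⟩
    show ψ h * ψ u ^ k * (ψ h)⁻¹ ∈ zpowers (ψ u)
    rw [← conj_zpow, he']
    exact zpow_mem (pow_mem (mem_zpowers _) 9) k
  have hj : ∀ j : ℕ, ψ h ^ j * ψ u * (ψ h ^ j)⁻¹ = ψ u ^ 9 ^ j := by
    intro j
    induction j with
    | zero => simp
    | succ j ih =>
      calc ψ h ^ (j + 1) * ψ u * (ψ h ^ (j + 1))⁻¹ = ψ h * (ψ h ^ j * ψ u * (ψ h ^ j)⁻¹) * (ψ h)⁻¹ := by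
            rw [pow_succ']; group
        _ = _ := by rw [ih, ← conj_pow, he', ← pow_mul, ← pow_succ']
  have h15 : 15 ∣ orderOf (ψ h) := by
    have h1 := hj (orderOf (ψ h))
    rw [pow_orderOf_eq_one, one_mul, inv_one, mul_one] at h1
    have h2 : ψ u ^ 9 ^ orderOf (ψ h) = ψ u ^ 1 := by rw [pow_one, ← h1]
    rw [pow_eq_pow_iff_modEq, hu'] at h2
    have h3 : 9 ^ orderOf (ψ h) ≡ 9 ^ (orderOf (ψ h) % 15) [MOD 31] := by
      conv_lhs => rw [← Nat.div_add_mod (orderOf (ψ h)) 15, pow_add, pow_mul]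
      have h4 : (9 ^ 15) ^ (orderOf (ψ h) / 15) ≡ 1 ^ (orderOf (ψ h) / 15) [MOD 31] := Nat.ModEq.pow _ (by decide)
      simpa using h4.mul_right (9 ^ (orderOf (ψ h) % 15))
    have h4 : ∀ j < 15, 9 ^ j ≡ 1 [MOD 31] → j = 0 := by decide +kernel
    exact Nat.dvd_of_mod_eq_zero (h4 _ (Nat.mod_lt _ (by norm_num)) (h3.symm.trans h2))
  have h1 : 31 * 15 ∣ Nat.card ↥(normalizer ((zpowers (ψ u) : Subgroup G) : Set G) ⊓ H) := by
    refine Nat.Coprime.mul_dvd_of_dvd_of_dvd (by norm_num) ?_ (h15.trans (orderOf_dvd_natCard _ ⟨hh, mψ h⟩))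
    exact hu' ▸ orderOf_dvd_natCard _ ⟨le_normalizer (mem_zpowers _), mψ u⟩
  have h2 : normalizer ((zpowers (ψ u) : Subgroup G) : Set G) ⊓ H = normalizer ((zpowers (ψ u) : Subgroup G) : Set G) :=
    eq_of_le_of_card_ge inf_le_left (by rw [hN]; exact Nat.le_of_dvd Nat.card_pos h1)
  exact inf_eq_left.1 h2

variable (Af : Aff) (F : Facts G) {H : Subgroup G}
include Af F

theorem max31 (I : I31 T31) (e : H ≃* T31) : IsCoatom H := by
  have := F.loc.fin
  exact coatom_of F.loc e (by rw [I.card]; decide) fun X h hX => amb31 Af F.sieve (F.loc.amb hX) (emb_inj e h) I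
    ((nt31 F.loc I e).na rfl e h hX)

theorem max11 (I : I11 T11) (e : H ≃* T11) (t1 : NT H 11) (t2 : NT H 5) : IsCoatom H := by
  have := F.loc.fin
  exact coatom_of F.loc e (by rw [I.card]; decide) fun X h hX => amb11 Af F.sieve (F.loc.amb hX) (emb_inj e h) I
    (t1.na rfl e h hX) (t2.na rfl e h hX)

theorem maxM (I : IM TM) (e : H ≃* TM) (t1 : NT H 11) (t2 : NT H 5) : IsCoatom H := by
  have := F.loc.fin
  exact coatom_of F.loc e (by rw [I.card]; decide) fun X h hX => ambM Af F.sieve (F.loc.amb hX) (emb_inj e h) I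
    ⟨MulEquiv.refl _⟩ (t1.na rfl e h hX) (t2.na rfl e h hX)

theorem max17 (I : I17 T17) (e : H ≃* T17) (t1 : NT H 17) (t2 : NT H 9) : IsCoatom H := by
  have := F.loc.fin
  exact coatom_of F.loc e (by rw [I.card]; decide) fun X h hX => amb17 Af F.sieve (F.loc.amb hX) (emb_inj e h) I
    (t1.na rfl e h hX) (t2.na rfl e h hX)

omit Af F

/-- `G` has a maximal subgroup isomorphic to `K` -/
def HasMax (G K : Type) [Group G] [Group K] : Prop := ∃ M : Subgroup G, IsCoatom M ∧ Nonempty (↥M ≃* K)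

theorem HasMax.map {G' K : Type} [Group G'] [Group K] (e : G ≃* G') (h : HasMax G K) : HasMax G' K := by
  obtain ⟨M, h1, ⟨f⟩⟩ := h
  exact ⟨M.map e.toMonoidHom, (OrderIso.isCoatom_iff (MulEquiv.mapSubgroup e) M).2 h1,
    ⟨(M.equivMapOfInjective e.toMonoidHom e.injective).symm.trans f⟩⟩

include Af F

theorem has31 (I : I31 T31) (h : Ex31 G) : HasMax G T31 := by
  obtain ⟨H, ⟨e⟩⟩ := h
  exact ⟨H, max31 Af F I e, ⟨e⟩⟩

theorem has11 (I : I11 T11) (h : Ex11 G) : HasMax G T11 := by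
  obtain ⟨H, ⟨e⟩, t1, t2⟩ := h
  exact ⟨H, max11 Af F I e t1 t2, ⟨e⟩⟩

theorem hasM (I : IM TM) (h : ExM G) : HasMax G TM := by
  obtain ⟨H, ⟨e⟩, t1, t2⟩ := h
  exact ⟨H, maxM Af F I e t1 t2, ⟨e⟩⟩

theorem has17 (I : I17 T17) (h : Ex17 G) : HasMax G T17 := by
  obtain ⟨H, ⟨e⟩, t1, t2⟩ := h
  exact ⟨H, max17 Af F I e t1 t2, ⟨e⟩⟩

end Cfsg.Agent.BX.Max
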