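import Cfsg.Agent.BX.Max.Iface
set_option linter.all false

/-!
# Transport of the local facts along an isomorphism (helper27, for S5527)
-/

set_option autoImplicit false

namespace Cfsg.Agent.BX.Max

open Subgroup

section
variable {G G' : Type*} [Group G] [Group G']

/-- the isomorphism of the centralisers -/
def centEquiv (e : G ≃* G') (x : G') :
    ↥(centralizer ({e.symm x} : Set G)) ≃* ↥(centralizer ({x} : Set G')) where
  toFun g := ⟨e g, by
    have h := mem_centralizer_singleton_iff.1 g.2
    rw [mem_centralizer_singleton_iff]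
    have := congrArg e h
    rwa [map_mul, map_mul, e.apply_symm_apply] at this⟩
  invFun g := ⟨e.symm g, by
    have h := mem_centralizer_singleton_iff.1 g.2
    rw [mem_centralizer_singleton_iff, ← map_mul, ← map_mul, h]⟩
  left_inv g := Subtype.ext (e.symm_apply_apply g)
  right_inv g := Subtype.ext (e.apply_symm_apply g)
  map_mul' a b := Subtype.ext (map_mul e (a : G) (b : G))

theorem card_cent_equiv (e : G ≃* G') (x : G') :
    Nat.card (centralizer ({x} : Set G')) = Nat.card (centralizer ({e.symm x} : Set G)) :=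
  (Nat.card_congr (centEquiv e x).toEquiv).symm

theorem Quo.of_equiv {S : Type} [Group S] (e : G ≃* G') {x : G'} (h : Quo (e.symm x) S) : Quo x S := by
  obtain ⟨φ, hφ, hk⟩ := h
  refine ⟨φ.comp (centEquiv e x).symm.toMonoidHom, hφ.comp (centEquiv e x).symm.surjective, fun g => ?_⟩
  refine (hk ((centEquiv e x).symm g)).trans ?_
  change e.symm g ∈ zpowers (e.symm x) ↔ _
  constructor
  · rintro ⟨i, hi⟩
    exact ⟨i, e.symm.injective (by rw [map_zpow]; exact hi)⟩
  · rintro ⟨i, hi⟩
    exact ⟨i, by rw [← hi, map_zpow]⟩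

theorem prank_of_injective {p k : ℕ} (f : G' →* G) (hf : Function.Injective f) (h : PRankLE p k G) :
    PRankLE p k G' := by
  intro A hA hp
  have h1 := h (A.map f) inferInstance (by
    rintro _ ⟨a, ha, rfl⟩
    rw [← map_pow, hp a ha, map_one])
  rwa [card_map_of_injective hf] at h1

theorem prank_sub {p k : ℕ} (h : PRankLE p k G) (X : Subgroup G) : PRankLE p k X :=
  prank_of_injective X.subtype X.subtype_injective h

end

theorem Loc.of_equiv {G G' : Type} [Group G] [Group G'] (h : Loc G) (e : G ≃* G') : Loc G' where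
  card := (Nat.card_congr e.toEquiv).symm.trans h.card
  rank := prank_of_injective e.symm.toMonoidHom e.symm.injective h.rank
  c47 x hx := (card_cent_equiv e x).trans (h.c47 _ (by rw [MulEquiv.orderOf_eq, hx]))
  c31 x hx := (card_cent_equiv e x).trans (h.c31 _ (by rw [MulEquiv.orderOf_eq, hx]))
  c17 x hx := (card_cent_equiv e x).trans (h.c17 _ (by rw [MulEquiv.orderOf_eq, hx]))
  q13 x hx := Quo.of_equiv e (h.q13 _ (by rw [MulEquiv.orderOf_eq, hx]))
  q11 x hx := Quo.of_equiv e (h.q11 _ (by rw [MulEquiv.orderOf_eq, hx]))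

theorem Facts.of_equiv {G G' : Type} [Group G] [Group G'] (h : Facts G) (e : G ≃* G') : Facts G' :=
  ⟨h.sieve, h.loc.of_equiv e⟩

theorem Gen47.of_equiv {G G' : Type} [Group G] [Group G'] (h : Gen47 G) (e : G ≃* G') : Gen47 G' := by
  intro X hX h47
  have hc : Nat.card (X.map e.symm.toMonoidHom) = Nat.card X := card_map_of_injective e.symm.injective
  rw [← hc] at h47 ⊢
  refine h _ (fun ht => hX ?_) h47
  rw [eq_top_iff]
  intro y _
  obtain ⟨z, hz, hzy⟩ : e.symm y ∈ X.map e.symm.toMonoidHom := ht ▸ mem_top _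
  exact e.symm.injective hzy ▸ hz

end Cfsg.Agent.BX.Max
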