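import Cfsg.Agent.BX.Max.Prim
import Cfsg.Agent.BX.Max.LocMap
import Cfsg.Agent.BX.Sieve.Big
import Cfsg.Agent.BMx.Base
import Cfsg.Agent.BM.KHAll
import Cfsg.Agent.H819.U33.Base
import Cfsg.Agent.H332.BabyUpper
import Cfsg.Agent.H630.OreB.Cent
import Cfsg.Agent.H139.LD.Struct13
import Cfsg.Agent.H860.I4.BEleven
set_option linter.all false

/-!
# The local facts on the Baby Monster (helper27, for S5527)

`locB`, `hypB` : for the presented group; `locG`, `hypG` : for the group of the model; `isoG` : the isomorphism.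
-/

set_option autoImplicit false
set_option maxRecDepth 100000

namespace Cfsg.Agent.BX.Max.GlueLoc

open Cfsg Subgroup

theorem quo_card {G : Type} [Group G] [Finite G] {x : G} {S : Type} [Group S] (h : Quo x S) :
    Nat.card (centralizer ({x} : Set G)) = orderOf x * Nat.card S := by
  obtain ⟨φ, hφ, hk⟩ := h
  have h1 : φ.ker = (zpowers x).subgroupOf (centralizer ({x} : Set G)) := Subgroup.ext hk
  rw [← φ.ker.card_mul_index, index_ker, MonoidHom.range_eq_top.2 hφ, card_top, h1,
    Nat.card_congr (subgroupOfEquivOfLe (Prim.zp_le x)).toEquiv, Nat.card_zpowers]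

theorem isoB : Spor.IsoB Spor.BabyMonster := ⟨MulEquiv.refl _⟩

theorem cardB : Nat.card Spor.BabyMonster = nB := BM.KHAll.card_B

theorem finB : Finite Spor.BabyMonster := Nat.finite_of_card_ne_zero (by rw [cardB]; norm_num [nB])

theorem simpleB : IsSimpleGroup Spor.BabyMonster := BM.KHAll.isB.1

theorem sThree : H715.Mon.Grp.SThree.{0} := H715.Mon.Grp.sThree BMx.engBase

theorem c47 (x : Spor.BabyMonster) (hx : orderOf x = 47) :
    Nat.card (centralizer ({x} : Set Spor.BabyMonster)) = 47 :=
  haveI := finB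
  haveI := simpleB
  H954.DR.CentB.cent47 isoB hx

theorem c31 (x : Spor.BabyMonster) (hx : orderOf x = 31) :
    Nat.card (centralizer ({x} : Set Spor.BabyMonster)) = 31 :=
  haveI := finB
  H630.OreB.Cent.c31 sThree isoB hx

theorem c23 (x : Spor.BabyMonster) (hx : orderOf x = 23) :
    Nat.card (centralizer ({x} : Set Spor.BabyMonster)) = 46 :=
  haveI := finB
  haveI := simpleB
  H630.OreB.Cent.c23 sThree isoB hx

theorem c19 (x : Spor.BabyMonster) (hx : orderOf x = 19) :
    Nat.card (centralizer ({x} : Set Spor.BabyMonster)) = 38 :=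
  haveI := finB
  H630.OreB.Cent.c19 sThree isoB hx

theorem c17 (x : Spor.BabyMonster) (hx : orderOf x = 17) :
    Nat.card (centralizer ({x} : Set Spor.BabyMonster)) = 68 :=
  haveI := finB
  H630.OreB.Cent.c17 sThree isoB hx

theorem c13 (x : Spor.BabyMonster) (hx : orderOf x = 13) :
    Nat.card (centralizer ({x} : Set Spor.BabyMonster)) = 312 :=
  (H139.LD.struct13_model hx).1

theorem q13 (x : Spor.BabyMonster) (hx : orderOf x = 13) : Quo x (Equiv.Perm (Fin 4)) := by
  haveI := finB
  obtain ⟨h1, K, hK, hc, ⟨e⟩⟩ := H139.LD.struct13_model hx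
  exact Prim.quo_of_sub hK e (by rw [h1, hx, hc]) (by rw [hx, hc]; norm_num)

theorem q11 (x : Spor.BabyMonster) (hx : orderOf x = 11) : Quo x (Equiv.Perm (Fin 5)) := H860.I4.exists_hom hx

theorem c11 (x : Spor.BabyMonster) (hx : orderOf x = 11) :
    Nat.card (centralizer ({x} : Set Spor.BabyMonster)) = 1320 := by
  haveI := finB
  rw [quo_card (q11 x hx), hx, Nat.card_eq_fintype_card, Fintype.card_perm, Fintype.card_fin]
  rfl

/-- **the local facts on the presented group** -/
theorem locB : Loc Spor.BabyMonster := ⟨cardB, H332.BabyUpper.baby_le, c47, c31, c17, q13, q11⟩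

theorem coreB : Sieve.Core Spor.BabyMonster := ⟨finB, simpleB, cardB, BMx.engBase⟩

theorem hypB : Sieve.Hyp Spor.BabyMonster := ⟨coreB, c47, c31, c23, c19, c17, c13, c11⟩

/-- the presented group and the group of the model -/
noncomputable def isoG : Spor.BabyMonster ≃* H819.U33.G := BM.KHAll.iso

/-- **the local facts on the group of the model** -/
theorem locG : Loc H819.U33.G := locB.of_equiv isoG

theorem hypG : Sieve.Hyp H819.U33.G := hypB.transport isoG

end Cfsg.Agent.BX.Max.GlueLoc
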